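import Cfsg.Agent.Lib.DefChar.FixSylow
import Cfsg.Agent.Lib.Chev.AutTypes
import Cfsg.Agent.Lib.Chev.RootCent

/-!
# Connected root elements in the Chevalley groups

Fundamental root elements commute with the negatives of the other fundamental roots and with the elements
of the highest root.
-/

set_option autoImplicit false
set_option linter.unusedSectionVars false

namespace Cfsg.Lib.DefChar

open Cfsg Cfsg.Lie Cfsg.Lib.Chev Subgroup

variable {D : ChevalleyDatum} {T : Tbl} {F : Type*} [Field F]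

/-- The fundamental roots sum with the last root to no root. -/
noncomputable def chkLastCentral (D : ChevalleyDatum) (T : Tbl) : Bool :=
  allBelow (fun i => (tTerms T (T.simp' i) (D.nroots - 1)).isEmpty) D.rank

theorem xg_pow (C : Cert D T) (r : ℕ) (t : F) : ∀ n : ℕ, xg C r t ^ n = xg C r ((n : F) * t)
  | 0 => by simp [xg_zero]
  | n + 1 => by rw [pow_succ, xg_pow C r t n, xg_add, Nat.cast_succ, add_mul, one_mul]

theorem connGen_chev (p : ℕ) [CharP F p] (A : AutData D T) (hrank : 2 ≤ D.rank)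
    (hlast : chkLastCentral D T = true) : ConnGen p ↥(D.group F) := by
  have C : Cert D T := A.full.comm.cert
  have K := A.full
  have hn : D.nroots - 1 < D.nroots ∧ D.nroots ≤ 2 * (D.nroots - 1) := by
    have h0 := K.simple_pos A.rank_pos
    have h1 := C.spec.simp_lt 0 A.rank_pos
    have h2 := C.spec.simp_lt 1 (by omega)
    have h3 := K.simple_pos (i := 1) (by omega)
    have h4 : T.simp' 0 ≠ T.simp' 1 := fun e => by
      have a := C.spec.cor_simple 0 A.rank_pos 0 A.rank_pos
      rw [e, C.spec.cor_simple 1 (by omega) 0 A.rank_pos] at a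
      simp at a
    omega
  -- the generators
  let el : ℕ → F → ↥(D.group F) := fun r t => ⟨xg C r t, xg_mem_group C r t⟩
  let R : ℕ → Prop := fun r => r = D.nroots - 1 ∨
    ∃ i < D.rank, r = T.simp' i ∨ r = T.neg (T.simp' i)
  have hR : ∀ r, R r → r < D.nroots := by
    rintro r (rfl | ⟨i, hi, rfl | rfl⟩)
    · exact hn.1
    · exact C.spec.simp_lt i hi
    · exact C.spec.neg_lt _ (C.spec.simp_lt i hi)
  refine ⟨{g | ∃ r, R r ∧ ∃ t, t ≠ 0 ∧ g = el r t}, el (D.nroots - 1) 1,
    ⟨_, Or.inl rfl, 1, one_ne_zero, rfl⟩, ?_, ?_, ?_⟩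
  · set H := closure {g : ↥(D.group F) | ∃ r, R r ∧ ∃ t, t ≠ 0 ∧ g = el r t} with hH
    have hmem : ∀ r, R r → ∀ t, el r t ∈ H := fun r hr t => by
      rcases eq_or_ne t 0 with rfl | ht
      · rw [show el r 0 = 1 from Subtype.ext (xg_zero C r)]; exact one_mem _
      · exact subset_closure ⟨r, hr, t, ht, rfl⟩
    refine top_le_iff.1 fun x _ => ?_
    have hgen : ∀ i < D.rank, ∀ t : F, el (T.simp' i) t ∈ H ∧ el (T.neg (T.simp' i)) t ∈ H := fun i hi t =>
      ⟨hmem _ (Or.inr ⟨i, hi, Or.inl rfl⟩) t, hmem _ (Or.inr ⟨i, hi, Or.inr rfl⟩) t⟩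
    have hν : ∀ i < D.rank, (⟨nu C i, mul_mem (mul_mem (xg_mem_group C _ _) (xg_mem_group C _ _))
        (xg_mem_group C _ _)⟩ : ↥(D.group F)) ∈ H := by
      intro i hi
      convert mul_mem (mul_mem (hgen i hi 1).1 (hgen i hi (-(1 : F)⁻¹)).2) (hgen i hi 1).1 using 1
      refine Subtype.ext ?_
      show ng C (T.simp' i) (1 : F) = _
      rw [ng, C.spec.shape.neg_eq _ (C.spec.simp_lt i hi)]
      rfl
    have hall : ∀ r < D.nroots, ∀ t : F, el r t ∈ H := by
      refine C.root_induction (fun i hi t => (hgen i hi t).1) fun i hi r hr ih t => ?_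
      have e := nu_conj_xg C hi hr ((T.eta' i r : ℤ) * t : F)
      rw [← mul_assoc, eta_sq, one_mul] at e
      convert mul_mem (mul_mem (hν i hi) (ih ((T.eta' i r : ℤ) * t))) (inv_mem (hν i hi)) using 1
      exact Subtype.ext e.symm
    obtain ⟨x, hx⟩ := x
    induction hx using Subgroup.closure_induction with
    | mem y hy =>
      obtain ⟨r, t, e⟩ := hy
      convert hall r.1 r.2 t using 1
      exact Subtype.ext (eq_xg C (e.trans (by rw [ChevalleyDatum.x, dif_pos r.2])))
    | one => exact one_mem H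
    | mul a b ha hb iha ihb => exact mul_mem (iha trivial) (ihb trivial)
    | inv a ha iha => exact inv_mem (iha trivial)
  · rintro _ ⟨r, hr, t, ht, rfl⟩
    refine ⟨fun e => ht (xg_eq_one C (hR r hr) (congrArg Subtype.val e)), 1, Subtype.ext ?_⟩
    show xg C r t ^ p ^ 1 = 1
    rw [xg_pow, pow_one, CharP.cast_eq_zero, zero_mul, xg_zero]
  · set S := {g : ↥(D.group F) | ∃ r, R r ∧ ∃ t, t ≠ 0 ∧ g = el r t}
    have hcomm : ∀ {r s : ℕ} {t u : F}, Commute (xg C r t) (xg C s u) → Commute (el r t) (el s u) :=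
      fun h => Subtype.ext h.eq
    have hpos : ∀ i < D.rank, ∀ t : F, t ≠ 0 →
        Relation.ReflTransGen (fun a b => a ∈ S ∧ b ∈ S ∧ Commute a b) (el (D.nroots - 1) 1) (el (T.simp' i) t) := by
      intro i hi t ht
      refine Relation.ReflTransGen.single ⟨⟨_, Or.inl rfl, 1, one_ne_zero, rfl⟩,
        ⟨_, Or.inr ⟨i, hi, Or.inl rfl⟩, t, ht, rfl⟩, (hcomm ?_).symm⟩
      refine xg_comm_of_terms C K (C.spec.simp_lt i hi) hn.1 (K.simple_pos hi) hn.2 (Or.inr ?_) t 1
      exact List.isEmpty_iff.1 (allBelow_iff.1 hlast i hi)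
    rintro _ ⟨r, (rfl | ⟨i, hi, rfl | rfl⟩), t, ht, rfl⟩
    · refine Relation.ReflTransGen.single ⟨⟨_, Or.inl rfl, 1, one_ne_zero, rfl⟩,
        ⟨_, Or.inl rfl, t, ht, rfl⟩, hcomm ?_⟩
      show _ = _
      rw [xg_add, xg_add, add_comm]
    · exact hpos i hi t ht
    · obtain ⟨j, hj, hne⟩ : ∃ j < D.rank, j ≠ i := by
        rcases eq_or_ne i 0 with rfl | h
        · exact ⟨1, by omega, by omega⟩
        · exact ⟨0, by omega, h.symm⟩
      refine (hpos j hj 1 one_ne_zero).tail ⟨⟨_, Or.inr ⟨j, hj, Or.inl rfl⟩, 1, one_ne_zero, rfl⟩,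
        ⟨_, Or.inr ⟨i, hi, Or.inr rfl⟩, t, ht, rfl⟩, hcomm ?_⟩
      exact comm_neg_of_chk C K.comm A.commNeg (i := ⟨j, hj⟩) (l := ⟨i, hi⟩)
        (fun e => hne (congrArg Fin.val e)) 1 t

theorem connGen_exceptional (p : ℕ) [CharP F p] (D : ChevalleyDatum)
    (hD : D ∈ [chevG2, chevF4, chevE6, chevE7, chevE8]) : ConnGen p ↥(D.group F) := by
  simp only [List.mem_cons, List.not_mem_nil, or_false] at hD
  rcases hD with rfl | rfl | rfl | rfl | rfl
  exacts [connGen_chev p autDataG2 (by decide +kernel) (by decide +kernel),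
    connGen_chev p autDataF4 (by decide +kernel) (by decide +kernel),
    connGen_chev p autDataE6 (by decide +kernel) (by decide +kernel),
    connGen_chev p autDataE7 (by decide +kernel) (by decide +kernel),
    connGen_chev p autDataE8 (by decide +kernel) (by decide +kernel)]

end Cfsg.Lib.DefChar
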