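import Cfsg.Agent.Lib.DefChar.FixSylow

/-!
# Automorphisms fixing a Sylow subgroup: propagation along `p`-subgroups

In a group locally of characteristic `p` the fixed group of a coprime automorphism fixing a Sylow
subgroup contains every `p`-subgroup that it meets.
-/

set_option autoImplicit false

namespace Cfsg.Lib.DefChar

open Subgroup

variable {G : Type*} [Group G] [Finite G] {p : ℕ} [hp : Fact p.Prime] {α : MulAut G}

/-- A `p`-subgroup meeting the fixed group is fixed. -/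
theorem Local.pGroup_le_fixSub (h : Local p G) (hα : ¬ p ∣ orderOf α) (U : Sylow p G)
    (hfix : ∀ x ∈ (U : Subgroup G), α x = x) {P : Subgroup G} (hP : IsPGroup p P) {x : G}
    (hxP : x ∈ P) (hx : x ≠ 1) (hxf : α x = x) : P ≤ fixSub α := by
  haveI : Nontrivial ↥P := ⟨⟨⟨x, hxP⟩, 1, fun e => hx (congrArg Subtype.val e)⟩⟩
  haveI := hP.center_nontrivial
  obtain ⟨⟨z, hz⟩, hz1⟩ := exists_ne (1 : center ↥P)
  have hpow : ∀ y : ↥P, ∃ k : ℕ, (y : G) ^ p ^ k = 1 := fun y => (hP y).imp fun k hk => congrArg Subtype.val hk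
  have hcomm : ∀ y : ↥P, (y : G) * z = z * y := fun y => congrArg Subtype.val (mem_center_iff.1 hz y)
  have hzf : (z : G) ∈ fixSub α := h.centralizer_le_fixed hα U hfix hx (hpow ⟨x, hxP⟩) hxf
    (mem_centralizer_singleton_iff.2 (hcomm ⟨x, hxP⟩).symm)
  have hz0 : (z : G) ≠ 1 := fun e => hz1 (Subtype.ext (Subtype.ext e))
  exact fun y hy => h.centralizer_le_fixed hα U hfix hz0 (hpow z) hzf
    (mem_centralizer_singleton_iff.2 (hcomm ⟨y, hy⟩))

/-- Generators each moving a non-trivial element of the Sylow subgroup into it. -/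
theorem Local.eq_one_of_inter [IsSimpleGroup G] (h : Local p G) (hα : ¬ p ∣ orderOf α) (U : Sylow p G)
    (hfix : ∀ x ∈ (U : Subgroup G), α x = x) {T : Set G} (hT : closure T = ⊤)
    (hint : ∀ t ∈ T, ∃ x ∈ (U : Subgroup G), x ≠ 1 ∧ t * x * t⁻¹ ∈ (U : Subgroup G)) : α = 1 := by
  have step : ∀ (n : G) {x : G}, x ∈ (U : Subgroup G) → x ≠ 1 → α (n * x * n⁻¹) = n * x * n⁻¹ →
      ∀ y ∈ (U : Subgroup G), n * y * n⁻¹ ∈ fixSub α := fun n x hx hx1 hf y hy =>
    h.pGroup_le_fixSub hα U hfix (U.isPGroup'.map (MulAut.conj n).toMonoidHom) ⟨x, hx, rfl⟩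
      (fun e => hx1 (conj_eq_one_iff.1 e)) hf ⟨y, hy, rfl⟩
  have key : ∀ g : G, ∀ y ∈ (U : Subgroup G), g * y * g⁻¹ ∈ fixSub α := fun g => by
    have hg : g ∈ closure T := hT ▸ mem_top g
    induction hg using closure_induction_right with
    | one => intro y hy; simpa [mem_fixSub] using hfix y hy
    | mul_right a _ t ht ih =>
      obtain ⟨x, hx, hx1, htx⟩ := hint t ht
      refine step _ hx hx1 ?_
      rw [show a * t * x * (a * t)⁻¹ = a * (t * x * t⁻¹) * a⁻¹ by group]
      exact ih _ htx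
    | mul_inv_cancel a _ t ht ih =>
      obtain ⟨x, hx, hx1, htx⟩ := hint t ht
      refine step _ htx (fun e => hx1 (conj_eq_one_iff.1 e)) ?_
      rw [show a * t⁻¹ * (t * x * t⁻¹) * (a * t⁻¹)⁻¹ = a * x * a⁻¹ by group]
      exact ih _ hx
  obtain ⟨t, ht⟩ : T.Nonempty := Set.nonempty_iff_ne_empty.2 fun e => by
    rw [e, Subgroup.closure_empty] at hT
    exact bot_ne_top hT
  obtain ⟨x, hx, hx1, -⟩ := hint t ht
  have hN : normalClosure ((U : Subgroup G) : Set G) = ⊤ :=
    (normalClosure_normal.eq_bot_or_eq_top).resolve_left fun e =>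
      hx1 (mem_bot.1 (e ▸ subset_normalClosure hx))
  refine MulEquiv.ext fun g => ?_
  have hle : normalClosure ((U : Subgroup G) : Set G) ≤ fixSub α := (closure_le _).2 fun y hy => by
    obtain ⟨u, hu, hc⟩ := Group.mem_conjugatesOfSet_iff.1 hy
    obtain ⟨c, e⟩ := isConj_iff.1 hc
    rw [← e]
    exact key c u hu
  exact hle (hN ▸ mem_top g)

section Family

variable {H : Type*} [Group H] [Finite H] [IsSimpleGroup H]

omit hp in
/-- A `p`-group is fixed when a Sylow subgroup is. -/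
theorem eq_one_of_isPGroup (hG : IsPGroup p G) (U : Sylow p G)
    (hfix : ∀ x ∈ (U : Subgroup G), α x = x) : α = 1 :=
  MulEquiv.ext fun g => hfix g ((U.is_maximal' (hG.to_subgroup ⊤) le_top).le (mem_top g))

/-- A group locally of characteristic `p` modulo its centre, with a simple quotient by the centre not a
`p`-group: the centre has order prime to `p`. -/
theorem LocalMod.center_coprime (h : LocalMod p G (center G)) (f : G →* H) (hf : Function.Surjective f)
    (hker : f.ker = center G) (hH : ¬ IsPGroup p H) : (Nat.card (center G)).Coprime p := by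
  refine (Cfsg.Lib.Core.coprime_iff_not_dvd' (p := p)).2 fun hdvd => hH ?_
  obtain ⟨z, hz⟩ := exists_prime_orderOf_dvd_card' p hdvd
  obtain ⟨L, hLp, hLn, hL⟩ := h (zpowers (z : G))
    (IsPGroup.iff_card.2 ⟨1, by rw [Nat.card_zpowers, Subgroup.orderOf_coe, hz, pow_one]⟩)
    (fun e => hp.out.ne_one (by rw [← hz, ← Subgroup.orderOf_coe, orderOf_eq_one_iff.2 (zpowers_eq_bot.1 e)]))
  have hnorm : L.Normal := normalizer_eq_top_iff.1 (top_le_iff.1 (le_trans (fun g _ => by
    refine mem_normalizer_iff.2 fun x => ?_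
    have hc : ∀ y ∈ zpowers (z : G), g * y * g⁻¹ = y := fun y hy => by
      rw [mem_center_iff.1 ((zpowers_le.2 z.2) hy) g, mul_inv_cancel_right]
    exact ⟨fun hx => by rw [hc x hx]; exact hx, fun hx => by
      have e1 := mem_center_iff.1 ((zpowers_le.2 z.2) hx) g⁻¹
      have e2 : x = g * x * g⁻¹ := by
        calc x = g⁻¹ * (g * x * g⁻¹) * g := by group
          _ = g * x * g⁻¹ := by rw [e1]; group
      rwa [← e2] at hx⟩) hLn))
  have hLc : L ≤ center G := by
    rcases (hnorm.map f hf).eq_bot_or_eq_top with e | e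
    · rw [← hker]; exact (Subgroup.map_eq_bot_iff _).1 e
    · exact absurd ((e ▸ hLp.map f).of_equiv topEquiv) hH
  intro y
  obtain ⟨g, rfl⟩ := hf y
  obtain ⟨a, m, hm, he⟩ := Nat.exists_eq_pow_mul_and_not_dvd (orderOf_pos g).ne' p hp.out.ne_one
  refine ⟨a, ?_⟩
  rw [← map_pow, ← MonoidHom.mem_ker, hker]
  refine hL _ (mem_centralizer_iff.2 fun l hl => (mem_center_iff.1 (hLc hl) _).symm) ?_
  rw [orderOf_pow, he, Nat.gcd_eq_right (dvd_mul_right _ _), Nat.mul_div_cancel_left _ (pow_pos hp.out.pos a)]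
  exact hm

/-- A conjugation-invariant connected family of `p`-subgroups of a group locally of characteristic `p`
modulo its centre: coprime automorphisms of the simple quotient fixing a Sylow subgroup are trivial. -/
theorem LocalMod.eq_one_of_family (h : LocalMod p G (center G)) (f : G →* H) (hf : Function.Surjective f)
    (hker : f.ker = center G) {ι : Type*} (L : ι → Subgroup G) (hL : ∀ i, IsPGroup p (L i))
    {i₀ : ι} (hne : L i₀ ≠ ⊥) (hconj : ∀ (n : G) (i : ι), ∀ x ∈ L i, ∃ j, n * x * n⁻¹ ∈ L j)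
    (hconn : ∀ i j, Relation.ReflTransGen (fun a b => ∃ x ∈ L a, x ∈ L b ∧ x ≠ 1) i j)
    {β : MulAut H} (hβ : ¬ p ∣ orderOf β) (U : Sylow p H) (hfix : ∀ x ∈ (U : Subgroup H), β x = x) :
    β = 1 := by
  rcases em (IsPGroup p H) with hH | hH
  · exact eq_one_of_isPGroup hH U hfix
  have hcop := h.center_coprime f hf hker hH
  have hloc : Local p H := LocalMod.map_surjective f hf hker.le (hker ▸ hcop) (hker ▸ h)
  have hinj : ∀ (i : ι) {x : G}, x ∈ L i → x ≠ 1 → f x ≠ 1 := fun i x hx hx1 e => by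
    obtain ⟨k, hk⟩ := hL i ⟨x, hx⟩
    have hmem : x ∈ center G := hker ▸ MonoidHom.mem_ker.2 e
    exact hx1 (orderOf_eq_one_iff.1 (Nat.eq_one_of_dvd_coprimes (hcop.pow_right k)
      (Subgroup.orderOf_mk x hmem ▸ orderOf_dvd_natCard _)
      (orderOf_dvd_of_pow_eq_one (congrArg Subtype.val hk))))
  have step : ∀ (i : ι) {x : G}, x ∈ L i → x ≠ 1 → β (f x) = f x → (L i).map f ≤ fixSub β :=
    fun i x hx hx1 hxf => hloc.pGroup_le_fixSub hβ U hfix ((hL i).map f) ⟨x, hx, rfl⟩ (hinj i hx hx1) hxf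
  obtain ⟨x₀, hx₀, hx₀1⟩ := (L i₀).bot_or_exists_ne_one.resolve_left hne
  obtain ⟨Q, hQ⟩ := ((hL i₀).map f).exists_le_sylow
  obtain ⟨c, hc⟩ := MulAction.exists_smul_eq H Q U
  obtain ⟨n, rfl⟩ := hf c
  obtain ⟨j₀, hj₀⟩ := hconj n i₀ x₀ hx₀
  have hstart : (L j₀).map f ≤ fixSub β := by
    refine step j₀ hj₀ (fun e => hx₀1 (conj_eq_one_iff.1 e)) (hfix _ ?_)
    have h1 : f (n * x₀ * n⁻¹) ∈ (f n • Q : Sylow p H) :=
      ⟨f x₀, hQ ⟨x₀, hx₀, rfl⟩, by simp⟩
    rwa [hc] at h1
  have hall : ∀ j, (L j).map f ≤ fixSub β := fun j => by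
    induction hconn j₀ j with
    | refl => exact hstart
    | tail _ hab ih =>
      obtain ⟨x, hxa, hxb, hx1⟩ := hab
      exact step _ hxb hx1 (ih ⟨x, hxa, rfl⟩)
  set K := closure {y : H | ∃ (i : ι) (x : G), x ∈ L i ∧ f x = y} with hK
  have hKn : K.Normal := ⟨fun y hy c => by
    obtain ⟨n, rfl⟩ := hf c
    induction hy using closure_induction with
    | mem y hy =>
      obtain ⟨i, x, hx, rfl⟩ := hy
      obtain ⟨j, hj⟩ := hconj n i x hx
      exact subset_closure ⟨j, _, hj, by simp⟩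
    | one => simp
    | mul a b _ _ iha ihb => simpa [mul_assoc] using mul_mem iha ihb
    | inv a _ iha => simpa [mul_assoc] using inv_mem iha⟩
  have hK1 : K = ⊤ := hKn.eq_bot_or_eq_top.resolve_left fun e =>
    hinj i₀ hx₀ hx₀1 (mem_bot.1 (e ▸ subset_closure ⟨i₀, x₀, hx₀, rfl⟩))
  refine MulEquiv.ext fun g => ?_
  have hle : K ≤ fixSub β := (closure_le _).2 fun y ⟨i, x, hx, e⟩ => e ▸ hall i ⟨x, hx, rfl⟩
  exact hle (hK1 ▸ mem_top g)

end Family

end Cfsg.Lib.DefChar
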