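import Cfsg.Agent.Lib.DefChar.FixGen
import Cfsg.Agent.Lib.DefChar.Polar

/-!
# Coprime automorphisms of the simple groups of polar spaces with two perpendicular singular points

The layer groups of the singular points and of the singular lines through them form a connected family.
-/

set_option autoImplicit false
set_option linter.unusedSectionVars false

namespace Cfsg.Lib.DefChar

open Cfsg.Lib.Linear.Steinberg Module Subgroup

variable {F V : Type*} [Field F] [AddCommGroup V] [Module F V] [Finite V] [FiniteDimensional F V]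
  {P : Polar F V} {G : Type*} [Group G] {ρ : G →* P.iso}

theorem span_pair_isTS {e u : V} (he : P.N e = 0) (hu : P.N u = 0) (hue : P.β u e = 0) :
    P.IsTS (Submodule.span F {e, u}) := by
  refine P.isTS_span (s := {e, u}) (by rintro x (rfl | rfl) <;> assumption) ?_
  rintro x (rfl | rfl) y (rfl | rfl)
  exacts [P.N_self _ he, P.zero_comm hue, hue, P.N_self _ hu]

/-- The element attached to two perpendicular singular points lies in the layer groups of the first point
and of their line. -/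
theorem Rich.exists_layer_pair (H : Rich P ρ) {e u : V} (he0 : e ≠ 0) (he : P.N e = 0) (hu : P.N u = 0)
    (hue : P.β u e = 0) (hind : u ∉ Submodule.span F {e}) :
    ∃ g, g ∈ layer ρ (Submodule.span F {e}) ∧ g ∈ layer ρ (Submodule.span F {e, u}) ∧ g ≠ 1 := by
  obtain ⟨g, a, b, c, -, hb, hg⟩ := H.root e u he0 he hue hind
  have hee := P.N_self e he
  have huu := P.N_self u hu
  have heu := P.zero_comm hue
  have hfix : ∀ w ∈ Submodule.span F ({e} : Set V), (ρ g : V ≃ₗ[F] V) w = w := by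
    intro w hw
    obtain ⟨k, rfl⟩ := Submodule.mem_span_singleton.1 hw
    simp [hg, P.smul_left, hee, heu]
  refine ⟨g, ⟨hfix, fun v hv => ?_⟩, ⟨fun w hw => ?_, fun v hv => ?_⟩, fun e1 => ?_⟩
  · have h1 : P.β v e = 0 := hv e (Submodule.mem_span_singleton_self e)
    rw [hg, h1, mul_zero, mul_zero, zero_smul, zero_smul, add_zero, add_zero, add_sub_cancel_left]
    exact Submodule.smul_mem _ _ (Submodule.mem_span_singleton_self e)
  · have hTS := span_pair_isTS he hu hue
    have h1 : P.β w e = 0 := hTS.2 w hw e (Submodule.subset_span (by simp))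
    have h2 : P.β w u = 0 := hTS.2 w hw u (Submodule.subset_span (by simp))
    simp [hg, h1, h2]
  · have h1 : P.β v e = 0 := hv e (Submodule.subset_span (by simp))
    have h2 : P.β v u = 0 := hv u (Submodule.subset_span (by simp))
    simp [hg, h1, h2]
  · refine he0 (H.nondeg e fun v => P.zero_comm ?_)
    have h1 := hg v
    rw [e1, map_one] at h1
    simp only [OneMemClass.coe_one, LinearEquiv.coe_one, id_eq, add_assoc, left_eq_add] at h1
    by_contra hne
    refine hind (Submodule.mem_span_singleton.2 ⟨-((a * P.β v u) + c * P.β v e) / (b * P.β v e), ?_⟩)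
    have hbne : b * P.β v e ≠ 0 := mul_ne_zero hb hne
    have h2 : (b * P.β v e) • u = -((a * P.β v u + c * P.β v e) • e) := by
      rw [eq_neg_iff_add_eq_zero, add_smul, ← h1]; abel
    calc (-(a * P.β v u + c * P.β v e) / (b * P.β v e)) • e
        = (b * P.β v e)⁻¹ • -((a * P.β v u + c * P.β v e) • e) := by
          rw [smul_neg, smul_smul, ← neg_smul]; congr 1; field_simp
      _ = u := by rw [← h2, smul_smul, inv_mul_cancel₀ hbne, one_smul]

/-- Two perpendicular independent singular points. -/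
def HasSingularLine (P : Polar F V) : Prop :=
  ∃ e₀ e₁ : V, e₀ ≠ 0 ∧ P.N e₀ = 0 ∧ P.N e₁ = 0 ∧ P.β e₁ e₀ = 0 ∧ e₁ ∉ Submodule.span F {e₀}

theorem Setup.hasSingularLine {m : ℕ} (D : Setup P m) (hm : 2 ≤ m) : HasSingularLine P := by
  refine ⟨D.e ⟨0, by omega⟩, D.e ⟨1, by omega⟩, fun h => ?_, D.frame.Ne _, D.frame.Ne _, D.frame.ee _ _,
    fun h => ?_⟩
  · have := D.frame.ef ⟨0, by omega⟩ ⟨0, by omega⟩
    rw [h, P.zero_left, if_pos rfl] at this
    exact zero_ne_one this
  · obtain ⟨k, hk⟩ := Submodule.mem_span_singleton.1 h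
    have := congrArg (fun x => P.β x (D.f ⟨1, by omega⟩)) hk
    simp [P.smul_left, D.frame.ef] at this

variable {p : ℕ} [hp : Fact p.Prime] [CharP F p] {H : Type*} [Group H] [Finite H] [IsSimpleGroup H]

/-- The simple quotient of a rich group of isometries with a singular line. -/
theorem Rich.eq_one (R : Rich P ρ) [Finite G] (hline : HasSingularLine P) (f : G →* H)
    (hf : Function.Surjective f) (hker : f.ker = Subgroup.center G) {α : MulAut H} (hα : ¬ p ∣ orderOf α)
    (U : Sylow p H) (hfix : ∀ x ∈ (U : Subgroup H), α x = x) : α = 1 := by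
  obtain ⟨e₀, e₁, he₀, hN₀, hN₁, h10, hind⟩ := hline
  let I := {x : V × V // x.1 ≠ 0 ∧ P.N x.1 = 0 ∧ P.N x.2 = 0 ∧ P.β x.2 x.1 = 0}
  let L : I → Subgroup G := fun x => layer ρ (Submodule.span F {x.1.1, x.1.2})
  let line : ∀ e : V, e ≠ 0 → P.N e = 0 → I := fun e h1 h2 => ⟨(e, 0), h1, h2, P.N_zero, P.zero_left e⟩
  have hline : ∀ e h1 h2, L (line e h1 h2) = layer ρ (Submodule.span F {e}) := fun e _ _ => by
    show layer ρ (Submodule.span F {e, (0 : V)}) = _
    rw [Set.pair_comm, Submodule.span_insert_zero]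
  -- every point is perpendicular to a point of the line
  have hmeet : ∀ e : V, ∃ w ∈ Submodule.span F {e₀, e₁}, w ≠ 0 ∧ P.β w e = 0 := by
    intro e
    by_cases h1 : P.β e₁ e = 0
    · exact ⟨e₁, Submodule.subset_span (by simp), fun h => hind (h ▸ Submodule.zero_mem _), h1⟩
    · refine ⟨P.β e₁ e • e₀ - P.β e₀ e • e₁, sub_mem (Submodule.smul_mem _ _
        (Submodule.subset_span (by simp))) (Submodule.smul_mem _ _ (Submodule.subset_span (by simp))),
        fun h => ?_, ?_⟩
      · rcases eq_or_ne (P.β e₀ e) 0 with h0 | h0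
        · rw [h0, zero_smul, sub_zero] at h
          exact (smul_eq_zero.1 h).elim h1 he₀
        · refine hind (Submodule.mem_span_singleton.2 ⟨P.β e₁ e / P.β e₀ e, ?_⟩)
          rw [div_eq_inv_mul, mul_smul, sub_eq_zero.1 h, inv_smul_smul₀ h0]
      · rw [P.sub_left, P.smul_left, P.smul_left, mul_comm, sub_self]
  -- every singular point has a second one perpendicular to it
  have hnbr : ∀ e : V, e ≠ 0 → P.N e = 0 →
      ∃ u, P.N u = 0 ∧ P.β u e = 0 ∧ u ∉ Submodule.span F {e} := by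
    intro e he hN
    have hW := span_pair_isTS hN₀ hN₁ h10
    by_cases hmem : e ∈ Submodule.span F {e₀, e₁}
    · by_cases h0 : e₀ ∈ Submodule.span F {e}
      · refine ⟨e₁, hN₁, hW.2 e₁ (Submodule.subset_span (by simp)) e hmem, fun h1 => hind ?_⟩
        obtain ⟨k, rfl⟩ := Submodule.mem_span_singleton.1 h0
        obtain ⟨l, rfl⟩ := Submodule.mem_span_singleton.1 h1
        have hk : k ≠ 0 := fun hk => he₀ (by rw [hk, zero_smul])
        exact Submodule.mem_span_singleton.2 ⟨l / k, by rw [smul_smul, div_mul_cancel₀ l hk]⟩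
      · exact ⟨e₀, hN₀, hW.2 e₀ (Submodule.subset_span (by simp)) e hmem, h0⟩
    · obtain ⟨w, hw, hw0, hwe⟩ := hmeet e
      refine ⟨w, hW.1 w hw, hwe, fun h => hmem ?_⟩
      obtain ⟨k, rfl⟩ := Submodule.mem_span_singleton.1 h
      have hk : k ≠ 0 := fun hk => hw0 (by rw [hk, zero_smul])
      simpa [inv_smul_smul₀ hk] using Submodule.smul_mem _ k⁻¹ hw
  let Adj : I → I → Prop := fun a b => ∃ x ∈ L a, x ∈ L b ∧ x ≠ 1
  have hsymm : ∀ {a b}, Adj a b → Adj b a := fun ⟨x, h1, h2, h3⟩ => ⟨x, h2, h1, h3⟩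
  -- a pair is adjacent to its first point
  have hfst : ∀ x : I, Adj x (line x.1.1 x.2.1 x.2.2.1) := by
    rintro ⟨⟨e, u⟩, he, hN, hNu, hue⟩
    show ∃ g ∈ L _, g ∈ L _ ∧ g ≠ 1
    rw [hline e he hN]
    by_cases hu : u ∈ Submodule.span F {e}
    · obtain ⟨u', hN', hue', hind'⟩ := hnbr e he hN
      obtain ⟨g, h1, -, h3⟩ := R.exists_layer_pair he hN hN' hue' hind'
      refine ⟨g, ?_, h1, h3⟩
      show g ∈ layer ρ (Submodule.span F {e, u})
      rwa [Set.pair_comm, Submodule.span_insert_eq_span hu]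
    · obtain ⟨g, h1, h2, h3⟩ := R.exists_layer_pair he hN hNu hue hu
      exact ⟨g, h2, h1, h3⟩
  -- perpendicular points
  have hperp : ∀ e u h1 h2 h3 h4, P.β u e = 0 → Relation.ReflTransGen Adj (line e h1 h2) (line u h3 h4) := by
    intro e u h1 h2 h3 h4 hue
    by_cases hu : u ∈ Submodule.span F {e}
    · have heq : L (line e h1 h2) = L (line u h3 h4) := by
        rw [hline e h1 h2, hline u h3 h4]
        obtain ⟨k, rfl⟩ := Submodule.mem_span_singleton.1 hu
        rw [Submodule.span_singleton_smul_eq (IsUnit.mk0 k fun hk => h3 (by rw [hk, zero_smul])) e]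
      obtain ⟨g, hg1, hg2, hg3⟩ := hfst (line e h1 h2)
      exact Relation.ReflTransGen.single ⟨g, hg1, heq ▸ hg1, hg3⟩
    · refine (Relation.ReflTransGen.single (hsymm (hfst ⟨(e, u), h1, h2, h4, hue⟩))).tail ?_
      obtain ⟨g, hg1, hg2, hg3⟩ := hfst ⟨(u, e), h3, h4, h2, P.zero_comm hue⟩
      refine ⟨g, ?_, hg2, hg3⟩
      show g ∈ layer ρ (Submodule.span F {e, u})
      rw [Set.pair_comm]
      exact hg1
  have hbase : ∀ e h1 h2, Relation.ReflTransGen Adj (line e₀ he₀ hN₀) (line e h1 h2) ∧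
      Relation.ReflTransGen Adj (line e h1 h2) (line e₀ he₀ hN₀) := by
    intro e h1 h2
    have hW := span_pair_isTS hN₀ hN₁ h10
    obtain ⟨w, hw, hw0, hwe⟩ := hmeet e
    have hwN := hW.1 w hw
    have he₀w : P.β e₀ w = 0 := hW.2 e₀ (Submodule.subset_span (by simp)) w hw
    exact ⟨(hperp e₀ w he₀ hN₀ hw0 hwN (P.zero_comm he₀w)).trans (hperp w e hw0 hwN h1 h2 (P.zero_comm hwe)),
      (hperp e w h1 h2 hw0 hwN hwe).trans (hperp w e₀ hw0 hwN he₀ hN₀ he₀w)⟩
  refine (Rich.localMod (p := p) R).eq_one_of_family f hf hker L (fun i g => ⟨2, Subtype.ext (layer_pow R g.2)⟩)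
    (i₀ := line e₀ he₀ hN₀) (fun h => ?_) (fun n i x hx => ?_) (fun i j => ?_) hα U hfix
  · obtain ⟨g, hg1, -, hg3⟩ := R.exists_layer_pair he₀ hN₀ hN₁ h10 hind
    rw [hline e₀ he₀ hN₀] at h
    exact hg3 (mem_bot.1 (h ▸ hg1))
  · obtain ⟨⟨e, u⟩, he, hN, hNu, hue⟩ := i
    refine ⟨⟨((ρ n : V ≃ₗ[F] V) e, (ρ n : V ≃ₗ[F] V) u), by simpa using he, by rw [P.iso_N (ρ n).2]; exact hN,
      by rw [P.iso_N (ρ n).2]; exact hNu, by rw [P.iso_β (ρ n).2]; exact hue⟩, ?_⟩
    have himg : Submodule.span F {(ρ n : V ≃ₗ[F] V) e, (ρ n : V ≃ₗ[F] V) u} =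
        (Submodule.span F {e, u}).map ((ρ n : V ≃ₗ[F] V) : V →ₗ[F] V) := by
      rw [Submodule.map_span, Set.image_pair]
      rfl
    show n * x * n⁻¹ ∈ layer ρ _
    simp only [himg]
    have e' : ∀ v, (ρ n⁻¹ : V ≃ₗ[F] V) ((ρ n : V ≃ₗ[F] V) v) = v := fun v => by simp
    have e'' : ∀ v, (ρ n : V ≃ₗ[F] V) ((ρ n⁻¹ : V ≃ₗ[F] V) v) = v := fun v => by simp
    refine ⟨fun w hw => ?_, fun v hv => ?_⟩
    · obtain ⟨w, hw, rfl⟩ := hw
      simp only [LinearEquiv.coe_coe, map_mul, Subgroup.coe_mul, LinearEquiv.mul_apply, e', hx.1 w hw]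
    · have hv' : (ρ n⁻¹ : V ≃ₗ[F] V) v ∈ perp P (Submodule.span F {e, u}) := fun w hw => by
        rw [← P.iso_β (ρ n).2, e'']
        exact hv _ (Submodule.mem_map_of_mem hw)
      refine ⟨_, hx.2 _ hv', ?_⟩
      simp only [LinearEquiv.coe_coe, map_sub, map_mul, Subgroup.coe_mul, LinearEquiv.mul_apply, e'']
  · exact ((Relation.ReflTransGen.single (hfst i)).trans (hbase _ i.2.1 i.2.2.1).2).trans
      ((hbase _ j.2.1 j.2.2.1).1.tail (hsymm (hfst j)))

end Cfsg.Lib.DefChar
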