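import Cfsg.Agent.Lib.DefChar.FixSylow
import Cfsg.Agent.Lib.Linear.MinIndexU3.Main
import Cfsg.Agent.Lib.Chev.TwG2Cosets
import Cfsg.Agent.S1163

/-!
# Coprime automorphisms of the rank one groups of Lie type

A subgroup `B` with a normal `p`-subgroup `U₀` containing all `p`-elements of `B` and regular on the
cosets other than `B` puts the quotient in the rank one situation.
-/

set_option autoImplicit false
set_option linter.unusedSectionVars false
set_option maxRecDepth 20000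

namespace Cfsg.Lib.DefChar

open Subgroup

variable {p : ℕ} [hp : Fact p.Prime] {G H : Type*} [Group G] [Group H] [Finite G] [Finite H]
  [IsSimpleGroup H]

/-- The rank one criterion on a covering group. -/
theorem eq_one_of_split_rank_one (f : G →* H) (hf : Function.Surjective f) (B U₀ : Subgroup G)
    (hU₀B : U₀ ≤ B) (hp₀ : IsPGroup p U₀) (hne : U₀ ≠ ⊥) (hker : f.ker ≤ B)
    (hnorm : ∀ b ∈ B, ∀ u ∈ U₀, b * u * b⁻¹ ∈ U₀) (hpel : ∀ g ∈ B, (∃ k : ℕ, g ^ p ^ k = 1) → g ∈ U₀)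
    {g₀ : G} (hg₀ : g₀ ∉ B) (htrans : ∀ g : G, g ∉ B → ∃ u ∈ U₀, (u * g₀)⁻¹ * g ∈ B)
    (hfree : ∀ u ∈ U₀, g₀⁻¹ * u * g₀ ∈ B → u = 1)
    {α : MulAut H} (hα : ¬ p ∣ orderOf α) (U : Sylow p H) (hfix : ∀ x ∈ (U : Subgroup H), α x = x) :
    α = 1 := by
  obtain ⟨u₁, hu₁, hu₁1⟩ := U₀.bot_or_exists_ne_one.resolve_left hne
  -- an element normalising `U₀` modulo the kernel lies in `B`
  have hself : ∀ g : G, (∀ u ∈ U₀, g⁻¹ * u * g ∈ B) → g ∈ B := by
    intro g hg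
    by_contra hgB
    obtain ⟨u, hu, hb⟩ := htrans g hgB
    refine hu₁1 ((conj_eq_one_iff (a := u⁻¹)).1 (hfree _ (mul_mem (mul_mem (inv_mem hu) hu₁) (inv_mem (inv_mem hu))) ?_))
    have h2 := mul_mem (mul_mem hb (hg u₁ hu₁)) (inv_mem hb)
    convert h2 using 1
    group
  -- `U₀` is a Sylow subgroup
  obtain ⟨Q, hQ⟩ := hp₀.exists_le_sylow
  have hQU : (Q : Subgroup G) = U₀ := by
    refine le_antisymm ?_ hQ
    by_contra hne'
    have hlt : (U₀.subgroupOf Q) < ⊤ := lt_top_iff_ne_top.2 fun e => hne' (subgroupOf_eq_top.1 e)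
    haveI : Group.IsNilpotent ↥(Q : Subgroup G) := Q.isPGroup'.isNilpotent
    obtain ⟨⟨y, hyQ⟩, hyN, hyU⟩ := SetLike.exists_of_lt (Group.normalizerCondition_of_isNilpotent _ hlt)
    refine hyU (mem_subgroupOf.2 (hpel y (hself y fun u hu => ?_) ?_))
    · have := (mem_normalizer_iff''.1 hyN ⟨u, hQ hu⟩).1 (mem_subgroupOf.2 hu)
      exact hU₀B (mem_subgroupOf.1 this)
    · obtain ⟨k, hk⟩ := Q.isPGroup' ⟨y, hyQ⟩
      exact ⟨k, congrArg Subtype.val hk⟩
  -- move it onto `U`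
  have hidx : ¬ p ∣ (U₀.map f).index := fun h => Q.not_dvd_index (hQU ▸ h.trans (index_map_dvd _ hf))
  obtain ⟨c, hc⟩ := MulAction.exists_smul_eq H ((hp₀.map f).toSylow hidx) U
  obtain ⟨n, rfl⟩ := hf c
  have hmem : ∀ x : H, x ∈ (U : Subgroup H) ↔ ∃ u ∈ U₀, f (n * u * n⁻¹) = x := fun x => by
    rw [← hc]
    constructor
    · rintro ⟨_, ⟨u, hu, rfl⟩, rfl⟩
      exact ⟨u, hu, by simp⟩
    · rintro ⟨u, hu, rfl⟩
      exact ⟨f u, ⟨u, hu, rfl⟩, by simp⟩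
  have hN : ∀ g : G, f (n * g * n⁻¹) ∈ normalizer ((U : Subgroup H) : Set H) → g ∈ B := by
    intro g hg
    refine hself g fun u hu => ?_
    obtain ⟨u', hu', e⟩ := (hmem _).1 ((mem_normalizer_iff''.1 hg _).1 ((hmem _).2 ⟨u, hu, rfl⟩))
    have hz : (n * (g⁻¹ * u * g) * n⁻¹)⁻¹ * (n * u' * n⁻¹) ∈ B := hker (MonoidHom.mem_ker.2 (by
      rw [map_mul, map_inv, e]; simp [mul_assoc]))
    have hz' : (g⁻¹ * u * g)⁻¹ * u' ∈ B := by
      have hzk : (n * (g⁻¹ * u * g) * n⁻¹)⁻¹ * (n * u' * n⁻¹) ∈ f.ker := MonoidHom.mem_ker.2 (by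
        rw [map_mul, map_inv, e]; simp [mul_assoc])
      have := hker ((MonoidHom.normal_ker f).conj_mem _ hzk n⁻¹)
      convert this using 1
      group
    simpa using mul_mem (hU₀B hu') (inv_mem hz')
  have hN' : ∀ b ∈ B, f (n * b * n⁻¹) ∈ normalizer ((U : Subgroup H) : Set H) := by
    intro b hb
    refine mem_normalizer_iff.2 fun x => ⟨fun hx => ?_, fun hx => ?_⟩
    · obtain ⟨u, hu, rfl⟩ := (hmem x).1 hx
      exact (hmem _).2 ⟨_, hnorm b hb u hu, by simp [mul_assoc]⟩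
    · obtain ⟨u, hu, e⟩ := (hmem _).1 hx
      refine (hmem x).2 ⟨_, hnorm b⁻¹ (inv_mem hb) u hu, ?_⟩
      have e' : x = (f (n * b * n⁻¹))⁻¹ * f (n * u * n⁻¹) * f (n * b * n⁻¹) := by rw [e]; group
      rw [e']
      simp [mul_assoc]
  refine eq_one_of_rank_one hα U hfix (f (n * g₀ * n⁻¹)) (fun h => hg₀ (hN g₀ h)) (fun h => ?_) fun x hx hxn => ?_
  · obtain ⟨g, rfl⟩ := hf h
    by_cases hg : n⁻¹ * g * n ∈ B
    · left
      simpa [mul_assoc] using hN' _ hg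
    · right
      obtain ⟨u, hu, hb⟩ := htrans _ hg
      exact ⟨_, (hmem _).2 ⟨u, hu, rfl⟩, _, hN' _ hb, by simp [mul_assoc]⟩
  · obtain ⟨u, hu, rfl⟩ := (hmem x).1 hx
    rw [hfree u hu (hN _ (by simpa [mul_assoc] using hxn))]
    simp

section PSLTwo

open Matrix

variable {F : Type*} [Field F] [Fintype F] [CharP F p]

local notation "SL₂" => Matrix.SpecialLinearGroup (Fin 2) F

/-- The groups `PSL 2`. -/
theorem eq_one_psl_two (f : SL₂ →* H) (hf : Function.Surjective f) (hker : f.ker = Subgroup.center SL₂)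
    {α : MulAut H} (hα : ¬ p ∣ orderOf α) (U : Sylow p H) (hfix : ∀ x ∈ (U : Subgroup H), α x = x) : α = 1 := by
  classical
  have hmul : ∀ (A C : SL₂) (i j : Fin 2), (A * C : SL₂) i j = A i 0 * C 0 j + A i 1 * C 1 j := fun A C i j => by
    rw [Matrix.SpecialLinearGroup.coe_mul, Matrix.mul_apply, Fin.sum_univ_two]
  have hdet : ∀ A : SL₂, A 0 0 * A 1 1 - A 0 1 * A 1 0 = 1 := fun A => by
    rw [← Matrix.det_fin_two]; exact A.2
  let B : Subgroup SL₂ :=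
    { carrier := {A | A 1 0 = 0}
      one_mem' := by simp
      mul_mem' := fun {A C} hA hC => by
        show (A * C : SL₂) 1 0 = 0
        rw [hmul, show A 1 0 = 0 from hA, show C 1 0 = 0 from hC]; ring
      inv_mem' := fun {A} hA => by
        show (A⁻¹ : SL₂) 1 0 = 0
        rw [Matrix.SpecialLinearGroup.coe_inv, Matrix.adjugate_fin_two]
        simpa using hA }
  let U₀ : Subgroup SL₂ :=
    { carrier := {A | A 1 0 = 0 ∧ A 0 0 = 1 ∧ A 1 1 = 1}
      one_mem' := by simp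
      mul_mem' := fun {A C} hA hC => by
        obtain ⟨a1, a2, a3⟩ := hA
        obtain ⟨c1, c2, c3⟩ := hC
        refine ⟨?_, ?_, ?_⟩ <;> rw [hmul] <;> simp [a1, a2, a3, c1, c2, c3]
      inv_mem' := fun {A} hA => by
        obtain ⟨a1, a2, a3⟩ := hA
        refine ⟨?_, ?_, ?_⟩ <;> rw [Matrix.SpecialLinearGroup.coe_inv, Matrix.adjugate_fin_two] <;>
          simp [a1, a2, a3] }
  have mkU : ∀ c : F, ∃ A ∈ U₀, A 0 1 = c := fun c => by
    refine ⟨⟨!![1, c; 0, 1], by simp [Matrix.det_fin_two]⟩, ⟨?_, ?_, ?_⟩, ?_⟩ <;> rfl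
  have hext : ∀ A C : SL₂, A 0 0 = C 0 0 → A 0 1 = C 0 1 → A 1 0 = C 1 0 → A 1 1 = C 1 1 → A = C :=
    fun A C h1 h2 h3 h4 => Subtype.ext (Matrix.ext fun i j => by fin_cases i <;> fin_cases j <;> assumption)
  have hpow : ∀ A ∈ B, ∀ k : ℕ, (A ^ k : SL₂) 0 0 = A 0 0 ^ k := fun A hA k => by
    induction k with
    | zero => simp
    | succ k ih => rw [pow_succ, hmul, ih, show A 1 0 = 0 from hA, pow_succ]; ring
  have hone : ∀ {a : F} {k : ℕ}, a ^ p ^ k = 1 → a = 1 := fun {a k} h => by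
    have : (a - 1) ^ p ^ k = 0 := by rw [sub_pow_char_pow, h, one_pow, sub_self]
    exact sub_eq_zero.1 (eq_zero_of_pow_eq_zero this)
  obtain ⟨g₀, e00, e01, e10, e11⟩ : ∃ g : SL₂, g 0 0 = 0 ∧ g 0 1 = -1 ∧ g 1 0 = 1 ∧ g 1 1 = 0 :=
    ⟨⟨!![0, -1; 1, 0], by simp [Matrix.det_fin_two]⟩, rfl, rfl, rfl, rfl⟩
  refine eq_one_of_split_rank_one f hf B U₀ (fun A hA => hA.1) (fun A => ?_) (fun e => ?_) ?_
    (fun A hA C hC => ?_) (fun A hA hk => ?_) (g₀ := g₀) (fun h => one_ne_zero (e10.symm.trans h))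
    (fun A hA => ?_) (fun A hA h => ?_) hα U hfix
  · obtain ⟨A, a1, a2, a3⟩ := A
    refine ⟨1, Subtype.ext ?_⟩
    rw [pow_one, SubmonoidClass.coe_pow]
    have key : ∀ k : ℕ, (A ^ k : SL₂) 0 1 = k * A 0 1 ∧ (A ^ k : SL₂) 1 0 = 0 ∧ (A ^ k : SL₂) 1 1 = 1 := fun k => by
      induction k with
      | zero => simp
      | succ k ih =>
        refine ⟨?_, ?_, ?_⟩ <;> rw [pow_succ, hmul] <;>
          simp [hpow A a1, ih.1, ih.2.1, ih.2.2, a1, a2, a3] <;> ring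
    obtain ⟨k1, k2, k3⟩ := key p
    refine hext _ _ ?_ ?_ ?_ ?_
    · rw [hpow A a1, a2, one_pow]; simp
    · rw [k1, CharP.cast_eq_zero]; simp
    · rw [k2]; simp
    · rw [k3]; simp
  · obtain ⟨A, hA, hA1⟩ := mkU 1
    have : A = 1 := mem_bot.1 (e ▸ hA)
    rw [this] at hA1
    simp at hA1
  · rw [hker]
    intro A hA
    obtain ⟨r, -, hr⟩ := Matrix.SpecialLinearGroup.mem_center_iff.1 hA
    show A 1 0 = 0
    rw [← hr]; simp
  · obtain ⟨c1, c2, c3⟩ := hC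
    have hA' : (A⁻¹ : SL₂) 1 0 = 0 ∧ (A⁻¹ : SL₂) 0 0 = A 1 1 ∧ (A⁻¹ : SL₂) 1 1 = A 0 0 := by
      rw [Matrix.SpecialLinearGroup.coe_inv, Matrix.adjugate_fin_two]
      simpa using (show A 1 0 = 0 from hA)
    have hd := hdet A
    rw [show A 1 0 = 0 from hA, mul_zero, sub_zero] at hd
    refine ⟨?_, ?_, ?_⟩ <;> rw [hmul, hmul, hmul] <;>
      simp [show A 1 0 = 0 from hA, c1, c2, c3, hA'.1, hA'.2.1, hA'.2.2] <;>
      first | linear_combination hd
  · obtain ⟨k, hk⟩ := hk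
    have h00 : A 0 0 = 1 := hone (k := k) (by rw [← hpow A hA, hk]; simp)
    have hd := hdet A
    rw [show A 1 0 = 0 from hA, h00, mul_zero, sub_zero, one_mul] at hd
    exact ⟨hA, h00, hd⟩
  · have hne : A 1 0 ≠ 0 := hA
    obtain ⟨C, ⟨c1, c2, c3⟩, hC⟩ := mkU (A 0 0 / A 1 0)
    refine ⟨C, ⟨c1, c2, c3⟩, ?_⟩
    show (((C * g₀)⁻¹ * A : SL₂)) 1 0 = 0
    rw [hmul, Matrix.SpecialLinearGroup.coe_inv, Matrix.adjugate_fin_two]
    simp only [Matrix.of_apply, Matrix.cons_val', Matrix.cons_val_zero, Matrix.cons_val_one,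
      Matrix.cons_val_fin_one]
    rw [hmul, hmul]
    simp [e00, e10, c1, c3, hC, div_mul_cancel₀ _ hne]
  · obtain ⟨a1, a2, a3⟩ := hA
    refine hext _ _ (by simp [a2]) ?_ (by simp [a1]) (by simp [a3])
    have h' : (g₀⁻¹ * A * g₀ : SL₂) 1 0 = 0 := h
    rw [hmul, hmul, hmul, Matrix.SpecialLinearGroup.coe_inv, Matrix.adjugate_fin_two] at h'
    simp [e00, e01, e10, e11, a1, a2, a3] at h'
    simp [h']

end PSLTwo

section PSUThree

open Cfsg.Lib.Linear Cfsg.Lib.Linear.Herm Cfsg.Lib.Linear.MinIndexU Cfsg.Lib.Linear.MinIndexU3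

variable {F : Type*} [Field F] [Fintype F] [CharP F p] {q : ℕ} {hF : Fintype.card F = q ^ 2}

include hF in
/-- The groups `PSU 3`. -/
theorem eq_one_psu_three (hq : 3 ≤ q) (e : Cfsg.PSU 3 F q ≃* H)
    {α : MulAut H} (hα : ¬ p ∣ orderOf α) (U : Sylow p H) (hfix : ∀ x ∈ (U : Subgroup H), α x = x) : α = 1 := by
  classical
  haveI := finite_sg hF (n := 3)
  have C := space3 hF hq
  let i : Cfsg.SU 3 F q ≃* SUg hF 3 :=
    (MonoidHom.ofInjective (suToLin_injective (F := F) (q := q) 3)).trans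
      (MulEquiv.subgroupCongr (suToLin_range hF (Or.inr ⟨le_rfl, Cfsg.Agent.S0780.two_trace_zero hF hq⟩)))
  set φ : SUg hF 3 →* H :=
    e.toMonoidHom.comp ((QuotientGroup.mk' (Subgroup.center (Cfsg.SU 3 F q))).comp i.symm.toMonoidHom) with hφ
  have hsurj : Function.Surjective φ :=
    e.surjective.comp ((QuotientGroup.mk'_surjective _).comp i.symm.surjective)
  obtain ⟨v, -, hv0, hv⟩ := exists_iso_ne_zero (frob_ne_id hF) (frob_frob hF) (hB_isSymm hF 3)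
    (⊤ : Submodule F (Fin 3 → F)) (by rw [finrank_top, Module.finrank_fin_fun]; omega)
  obtain ⟨e', v', D⟩ := exists_frame3 (hF := hF) C hv hv0
  obtain ⟨t, ht, htv⟩ := Three.exists_map C hv hv0 D.hv' (fun h => one_ne_zero (α := F) (by
    have := D.pair; rwa [h, map_zero, eq_comm] at this))
  have hind : v' ∉ Submodule.span F {v} := fun h => by
    obtain ⟨k, rfl⟩ := Submodule.mem_span_singleton.1 h
    exact one_ne_zero (α := F) (by rw [← D.pair, map_smul, smul_eq_mul, hv, mul_zero])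
  refine eq_one_of_split_rank_one φ hsurj (Bv hF v) (Uv hF v) Uv_le ?_ ?_ ?_
    (fun g hg u hu => ?_) (fun g hg hk => ?_) (g₀ := ⟨t, ht⟩) (fun h => ?_) (fun g hg => ?_)
    (fun u hu h => ?_) hα U hfix
  · exact (D.isPGroup_HU (H := ⊤) (p := p)).to_le (le_inf le_top le_rfl)
  · intro hbot
    obtain ⟨c, hc, hc0⟩ : ∃ c : F, c + frob hF c = 0 ∧ c ≠ 0 :=
      (exists_trace_zero (frob_ne_id hF) (frob_frob hF)).imp fun c hc => ⟨hc.2, hc.1⟩
    obtain ⟨s, hs⟩ := exists_tv C hv hc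
    have hsU : s ∈ Uv hF v := mem_Uv.2 (by rw [hs]; simp [hv])
    have hs1 : s = 1 := mem_bot.1 (by rw [hbot] at hsU; exact hsU)
    have h := hs v'
    rw [hs1] at h
    simp [D.pair, hc0, hv0] at h
  · intro g hg
    obtain ⟨c, hc⟩ := center_scalar3 hq (g := g) (by
      have h1 : i.symm g ∈ Subgroup.center (Cfsg.SU 3 F q) :=
        (QuotientGroup.eq_one_iff _).1 (e.injective (by rw [map_one]; exact MonoidHom.mem_ker.1 hg))
      rw [Subgroup.mem_center_iff] at h1 ⊢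
      intro k
      refine i.symm.injective ?_
      rw [map_mul, map_mul, h1])
    exact ⟨c, hc v⟩
  · obtain ⟨c, hc⟩ := hg
    have hc0 : c ≠ 0 := fun h => hv0 (g.1.injective (by rw [hc, h, zero_smul, map_zero]))
    have h3 : (g⁻¹).1 v = c⁻¹ • v := g.1.injective (by
      rw [apply_inv, map_smul, hc, smul_smul, inv_mul_cancel₀ hc0, one_smul])
    rw [mem_Uv, sg_mul_apply, sg_mul_apply, h3, map_smul, mem_Uv.1 hu, map_smul, hc, smul_smul,
      inv_mul_cancel₀ hc0, one_smul]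
  · obtain ⟨k, hk⟩ := hk
    refine (D.nu_one_iff hg).1 ?_
    have hpow : ∀ j : ℕ, D.nu (g ^ j) = D.nu g ^ j := fun j => by
      induction j with
      | zero => rw [pow_zero, pow_zero, D.nu_one]
      | succ j ih => rw [pow_succ, D.nu_mul (pow_mem hg j) hg, ih, pow_succ]
    have h1 : (D.nu g - 1) ^ p ^ k = 0 := by
      rw [sub_pow_char_pow, one_pow, ← hpow, hk, D.nu_one, sub_self]
    exact sub_eq_zero.1 (eq_zero_of_pow_eq_zero h1)
  · obtain ⟨k, hk⟩ := h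
    exact hind (Submodule.mem_span_singleton.2 ⟨k, by rw [← htv]; exact hk.symm⟩)
  · have hw : g.1 v ∉ Submodule.span F {v} := fun h => by
      obtain ⟨k, hk⟩ := Submodule.mem_span_singleton.1 h
      exact hg ⟨k, hk.symm⟩
    have hgv : hB hF 3 (g.1 v) (g.1 v) = 0 := (sg_iso g v v).trans hv
    obtain ⟨s, hs, hsv, k, hsk⟩ := Three.exists_map_pair C hv D.hv' (by rw [D.pair]; exact one_ne_zero) hv hgv
      (Three.pair_ne_zero C hv hgv hv0 hw)
    refine ⟨⟨s, hs⟩, hsv, k⁻¹, ?_⟩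
    have hk0 : k ≠ 0 := fun h => D.v_ne (by
      rw [h, zero_smul, ← map_zero s] at hsk
      have hv'0 := s.injective hsk
      have := D.pair
      rw [hv'0, map_zero] at this
      exact absurd this zero_ne_one)
    refine ((⟨s, hs⟩ : SUg hF 3) * ⟨t, ht⟩).1.injective ?_
    rw [← sg_mul_apply, mul_inv_cancel_left, map_smul, sg_mul_apply, htv, hsk, smul_smul, inv_mul_cancel₀ hk0,
      one_smul]
  · obtain ⟨k, hk⟩ := h
    refine D.semiregular hu (w := v') (fun h0 => hind (by rw [h0]; exact Submodule.zero_mem _)) D.hv' hind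
      (k := k) ?_
    have := congrArg (⟨t, ht⟩ : SUg hF 3).1 hk
    rw [sg_mul_apply, sg_mul_apply, apply_inv, map_smul] at this
    rwa [htv] at this

end PSUThree

section Sylow

/-- The `p`-elements of the normaliser of a Sylow subgroup lie in it. -/
theorem mem_sylow_of_normalizer (P : Sylow p G) {g : G} (hg : g ∈ normalizer ((P : Subgroup G) : Set G))
    (hk : ∃ k : ℕ, g ^ p ^ k = 1) : g ∈ (P : Subgroup G) := by
  obtain ⟨k, hk⟩ := hk
  have hz : IsPGroup p (zpowers g) := by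
    rintro ⟨y, hy⟩
    obtain ⟨j, rfl⟩ := mem_zpowers_iff.1 hy
    exact ⟨k, Subtype.ext (by
      show (g ^ j) ^ p ^ k = 1
      rw [← zpow_natCast, zpow_comm, zpow_natCast, hk, one_zpow])⟩
  have h := P.is_maximal' (P.isPGroup'.to_sup_of_normal_left' hz (zpowers_le.2 hg)) le_sup_left
  exact h ▸ mem_sup_right (mem_zpowers g)

end Sylow

section Suzuki

variable [Fact (Nat.Prime 2)] {F : Type} [Field F] [Fintype F] {m : ℕ}

/-- The Suzuki groups. -/
theorem eq_one_sz (hm : 1 ≤ m) (hF : Fintype.card F = 2 ^ (2 * m + 1))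
    (e : ↥(Cfsg.Lie.Sz F (2 ^ (m + 1))) ≃* H) {α : MulAut H} (hα : ¬ 2 ∣ orderOf α) (U : Sylow 2 H)
    (hfix : ∀ x ∈ (U : Subgroup H), α x = x) : α = 1 := by
  classical
  haveI : Finite ↥(Cfsg.Lie.Sz F (2 ^ (m + 1))) := Finite.of_equiv H e.symm.toEquiv
  obtain ⟨hG, S, hN, hidx, -, hreg⟩ := Cfsg.Agent.S1163.result hm hF
  set N := normalizer ((S : Subgroup ↥(Cfsg.Lie.Sz F (2 ^ (m + 1)))) : Set ↥(Cfsg.Lie.Sz F (2 ^ (m + 1))))
  have hq : 1 ≤ (2 ^ (2 * m + 1)) ^ 2 := Nat.one_le_pow _ _ (Nat.two_pow_pos _)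
  obtain ⟨g₀, hg₀⟩ : ∃ g, g ∉ N := by
    by_contra h
    push Not at h
    rw [show N = ⊤ from eq_top_iff.2 fun g _ => h g, index_top] at hidx
    omega
  have hne : (S : Subgroup ↥(Cfsg.Lie.Sz F (2 ^ (m + 1)))) ≠ ⊥ := fun h => by
    refine S.not_dvd_index ?_
    rw [h, index_bot, hG]
    refine dvd_mul_of_dvd_left (dvd_mul_of_dvd_left ?_ _) _
    exact dvd_pow (dvd_pow_self 2 (by omega)) two_ne_zero
  have hmk : ∀ g, g ∉ N → (QuotientGroup.mk g : _ ⧸ N) ≠ QuotientGroup.mk 1 := fun g hg h =>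
    hg (by simpa using inv_mem (QuotientGroup.eq.1 h))
  refine eq_one_of_split_rank_one (p := 2) e.toMonoidHom e.surjective N S le_normalizer S.isPGroup' hne
    (fun g hg => ?_) (fun b hb u hu => (mem_normalizer_iff.1 hb u).1 hu)
    (fun g hg hk => mem_sylow_of_normalizer S hg hk) hg₀ (fun g hg => ?_) (fun u hu h => ?_) hα U hfix
  · rw [show g = 1 from e.injective (by rw [map_one]; exact hg)]
    exact one_mem _
  · obtain ⟨s, hs, -⟩ := hreg _ _ (hmk g₀ hg₀) (hmk g hg)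
    exact ⟨s, s.2, QuotientGroup.eq.1 hs⟩
  · obtain ⟨s, -, huniq⟩ := hreg _ _ (hmk g₀ hg₀) (hmk g₀ hg₀)
    have h1 : (⟨u, hu⟩ : ↥(S : Subgroup ↥(Cfsg.Lie.Sz F (2 ^ (m + 1))))) = 1 := (huniq _ (by
      show (QuotientGroup.mk (u * g₀) : _ ⧸ N) = QuotientGroup.mk g₀
      refine QuotientGroup.eq.2 ?_
      simpa [mul_assoc] using inv_mem h)).trans (huniq 1 (one_smul _ _)).symm
    exact congrArg Subtype.val h1

end Suzuki

section Ree

open Cfsg.Lie Cfsg.Lib.Chev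

variable [Fact (Nat.Prime 3)] {K : Type} [Field K] [Fintype K] [CharP K esymG2.p] {m : ℕ}

/-- The Ree groups. -/
theorem eq_one_ree (hK : Fintype.card K = 3 ^ (2 * m + 1))
    (e : ↥((twOKG2 (K := K) m).fixed certG2C) ≃* H) {α : MulAut H} (hα : ¬ 3 ∣ orderOf α) (U : Sylow 3 H)
    (hfix : ∀ x ∈ (U : Subgroup H), α x = x) : α = 1 := by
  classical
  haveI : Finite ↥((twOKG2 (K := K) m).fixed certG2C) := Finite.of_equiv H e.symm.toEquiv
  obtain ⟨n, hn, -, hconj, hdec⟩ := g2_exists_long hK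
  set Φ := (twOKG2 (K := K) m).fixed certG2C with hΦ
  set U₀ := (chevG2.posUnipotent K ⊓ Φ).subgroupOf Φ with hU₀
  set B := (chevG2.borelSubgroup K ⊓ Φ).subgroupOf Φ with hB
  have hcU : Nat.card ↥U₀ = (3 ^ (2 * m + 1)) ^ 3 := by
    rw [Nat.card_congr (Subgroup.subgroupOfEquivOfLe inf_le_right).toEquiv,
      (twOKG2 (K := K) m).card_pos_fixed certG2C fullCertG2 twCombG2 (wt := fun _ => 3) (fun J hJ => g2_card_fixPart hK hJ)
        two_pos (by decide +kernel)]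
    rfl
  have hodd : ¬ 3 ∣ U₀.index := by
    have h := U₀.card_mul_index
    have hcG := twistedG2_order hK
    rw [twistedG2_eq hK] at hcG
    rw [hcU, hcG, mul_assoc ((3 ^ (2 * m + 1)) ^ 3)] at h
    rw [Nat.eq_of_mul_eq_mul_left (by positivity) h, Nat.prime_three.dvd_mul]
    have h2 : 3 ^ (2 * m + 1) % 3 = 0 := by rw [pow_succ]; omega
    have h3 : (3 ^ (2 * m + 1)) ^ 3 % 3 = 0 := by rw [Nat.pow_mod, h2]
    have h1 : 1 ≤ 3 ^ (2 * m + 1) := Nat.one_le_pow _ _ (by norm_num)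
    omega
  have hp₀ : IsPGroup 3 ↥U₀ := IsPGroup.of_card (n := (2 * m + 1) * 3) (by rw [hcU, ← pow_mul])
  have hBn : ∀ b ∈ chevG2.borelSubgroup K, ∀ z ∈ chevG2.posUnipotent K, b * z * b⁻¹ ∈ chevG2.posUnipotent K := by
    intro b hb z hz
    have hb' : b ∈ Subgroup.normalizer (chevG2.posUnipotent K : Set (GL chevG2.Idx K)) ⊓ chevG2.group K := by
      rw [normalizer_pos certG2C fullCertG2]; exact hb
    exact (Subgroup.mem_normalizer_iff.1 hb'.1 z).1 hz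
  have hUB : U₀ ≤ B := fun g hg => mem_subgroupOf.2 ⟨mem_sup_left (mem_subgroupOf.1 hg).1, g.2⟩
  have hnorm : ∀ b ∈ B, ∀ u ∈ U₀, b * u * b⁻¹ ∈ U₀ := fun b hb u hu =>
    mem_subgroupOf.2 ⟨hBn _ (mem_inf.1 (mem_subgroupOf.1 hb)).1 _ (mem_inf.1 (mem_subgroupOf.1 hu)).1, (b * u * b⁻¹).2⟩
  have hne : U₀ ≠ ⊥ := fun h => by
    rw [h, card_bot] at hcU
    exact absurd hcU.symm (ne_of_gt (Nat.one_lt_pow (by omega) (Nat.one_lt_pow (by omega) (by norm_num))))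
  have hzero : ∀ {x : ↥Φ}, x ∈ U₀ → n * (x : GL chevG2.Idx K) * n⁻¹ ∈ chevG2.borelSubgroup K → x = 1 := by
    intro x hx hxB
    have h3 : n * (x : GL chevG2.Idx K) * n⁻¹ ∈ chevG2.borelSubgroup K ⊓ chevG2.negUnipotent K :=
      ⟨hxB, (hconj _ (mem_inf.1 (mem_subgroupOf.1 hx)).1).1⟩
    rw [borel_inf_neg certG2C, mem_bot, conj_eq_one_iff] at h3
    exact Subtype.ext h3
  refine eq_one_of_split_rank_one (p := 3) e.toMonoidHom e.surjective B U₀ hUB hp₀ hne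
    (fun g hg => ?_) hnorm
    (fun g hg hk => mem_sylow_of_normalizer (hp₀.toSylow hodd) (mem_normalizer_iff.2 fun u =>
      ⟨fun hu => hnorm g hg u hu, fun hu => ?_⟩) hk)
    (g₀ := (⟨n, hn⟩ : ↥Φ)⁻¹) (fun h => ?_) (fun g hg => ?_) (fun u hu h => ?_) hα U hfix
  · rw [show g = 1 from e.injective (by rw [map_one]; exact hg)]
    exact one_mem _
  · simpa [mul_assoc] using hnorm _ (inv_mem hg) _ hu
  · obtain ⟨x, hx, hx1⟩ := U₀.bot_or_exists_ne_one.resolve_left hne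
    refine hx1 (hzero hx (mem_sup_left ?_))
    have hnB : n ∈ chevG2.borelSubgroup K := by simpa using inv_mem (mem_inf.1 (mem_subgroupOf.1 h)).1
    exact hBn n hnB _ (mem_inf.1 (mem_subgroupOf.1 hx)).1
  · rcases hdec ((g⁻¹ : ↥Φ) : GL chevG2.Idx K) (g⁻¹).2 with hgB | ⟨b, hb, c, hc, e0⟩
    · exact absurd (mem_subgroupOf.2 (mem_inf.2 ⟨by simpa using (inv_mem hgB : ((g⁻¹ : ↥Φ) : GL chevG2.Idx K)⁻¹ ∈ chevG2.borelSubgroup K), g.2⟩)) hg
    · refine ⟨(⟨c, hc.2⟩ : ↥Φ)⁻¹, inv_mem (mem_subgroupOf.2 hc), mem_subgroupOf.2 ⟨?_, Subtype.prop _⟩⟩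
      have e1 : (g : GL chevG2.Idx K) = (b * n * c)⁻¹ := by rw [← e0]; simp
      simp only [Subgroup.coe_mul, InvMemClass.coe_inv, e1]
      rw [show (c⁻¹ * n⁻¹)⁻¹ * (b * n * c)⁻¹ = b⁻¹ by group]
      exact Subgroup.inv_mem _ (mem_inf.1 hb).1
  · refine hzero hu ?_
    simpa using (mem_inf.1 (mem_subgroupOf.1 h)).1

end Ree

end Cfsg.Lib.DefChar
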