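import Cfsg.Agent.Lib.DefChar.FixGen
import Cfsg.Agent.Lib.DefChar.SL

/-!
# Coprime automorphisms of the projective special linear groups of dimension at least three

The layer groups of the proper subspaces form a connected family.
-/

set_option autoImplicit false

namespace Cfsg.Lib.DefChar

open Matrix Cfsg.Lib.Linear.SLBlocks

variable {n : ℕ} {F : Type*} [Field F] (p : ℕ) [hp : Fact p.Prime] [CharP F p] [Finite F]

local notation "G" => Matrix.SpecialLinearGroup (Fin n) F

/-- A transvection in the layer groups of a point and of a proper subspace containing it. -/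
theorem exists_transvection_layer {W : Submodule F (Fin n → F)} {w : Fin n → F} (hw : w ∈ W) (hw0 : w ≠ 0)
    (hW : W ≠ ⊤) : ∃ τ : G, τ ∈ layerGroup W ∧ τ ∈ layerGroup (Submodule.span F {w}) ∧ τ ≠ 1 := by
  obtain ⟨x₀, hx₀⟩ : ∃ x, x ∉ W := by
    by_contra h
    push Not at h
    exact hW (eq_top_iff.2 fun x _ => h x)
  obtain ⟨f, hf, hfW⟩ := Submodule.exists_dual_map_eq_bot_of_notMem hx₀ inferInstance
  have hf' : ∀ v ∈ W, f v = 0 := fun v hv => by
    have : f v ∈ W.map f := ⟨v, hv, rfl⟩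
    rwa [hfW, Submodule.mem_bot] at this
  set M : Matrix (Fin n) (Fin n) F := LinearMap.toMatrix' (LinearMap.id + f.smulRight w) with hM
  have happ : ∀ v, M *ᵥ v = v + f v • w := fun v => by
    rw [hM, ← Matrix.toLin'_apply, Matrix.toLin'_toMatrix']
    rfl
  obtain ⟨r, hr⟩ : ∃ r : Fin n → F, ∀ v, f v = r ⬝ᵥ v := by
    refine ⟨fun i => f (Pi.single i 1), fun v => ?_⟩
    conv_lhs => rw [← Finset.univ_sum_single v]
    rw [map_sum]
    refine Finset.sum_congr rfl fun i _ => ?_
    rw [show (Pi.single i (v i) : Fin n → F) = v i • Pi.single i 1 by simp [← Pi.single_smul], map_smul,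
      smul_eq_mul, mul_comm]
  have hdet : M.det = 1 := by
    have e : M = 1 + Matrix.replicateCol Unit w * Matrix.replicateRow Unit r := by
      refine Matrix.ext_of_mulVec_single fun i => ?_
      rw [happ, Matrix.add_mulVec, Matrix.one_mulVec, hr]
      congr 1
      funext j
      simp [Matrix.mul_apply, dotProduct, mul_comm, Pi.single_apply]
    rw [e, Matrix.det_one_add_replicateCol_mul_replicateRow, ← hr, hf' w hw, add_zero]
  refine ⟨⟨M, hdet⟩, ⟨fun v => ?_, fun v hv => ?_⟩, ⟨fun v => ?_, fun v hv => ?_⟩, fun e => ?_⟩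
  · show M *ᵥ v - v ∈ W
    rw [happ, add_sub_cancel_left]; exact W.smul_mem _ hw
  · show M *ᵥ v = v
    rw [happ, hf' v hv, zero_smul, add_zero]
  · show M *ᵥ v - v ∈ Submodule.span F {w}
    rw [happ, add_sub_cancel_left]; exact Submodule.smul_mem _ _ (Submodule.mem_span_singleton_self w)
  · show M *ᵥ v = v
    obtain ⟨k, rfl⟩ := Submodule.mem_span_singleton.1 hv
    rw [happ, map_smul, hf' w hw, smul_zero, zero_smul, add_zero]
  · have h := happ x₀
    rw [show M = 1 from congrArg Subtype.val e, Matrix.one_mulVec, left_eq_add] at h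
    exact (smul_eq_zero.1 h).elim hf hw0

/-- The projective special linear groups of dimension at least three. -/
theorem eq_one_psl [Fintype F] (hn : 3 ≤ n) {H : Type*} [Group H] [Finite H] [IsSimpleGroup H]
    (f : G →* H) (hf : Function.Surjective f) (hker : f.ker = Subgroup.center G) {α : MulAut H}
    (hα : ¬ p ∣ orderOf α) (U : Sylow p H) (hfix : ∀ x ∈ (U : Subgroup H), α x = x) : α = 1 := by
  let I := {W : Submodule F (Fin n → F) // W ≠ ⊥ ∧ W ≠ ⊤}
  let Adj : I → I → Prop := fun a b => ∃ x ∈ layerGroup (a : Submodule F (Fin n → F)),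
    x ∈ layerGroup (b : Submodule F (Fin n → F)) ∧ x ≠ 1
  have hsymm : ∀ {a b : I}, Adj a b → Adj b a := fun ⟨x, h1, h2, h3⟩ => ⟨x, h2, h1, h3⟩
  have hle : ∀ w₁ w₂ : Fin n → F, Submodule.span F {w₁, w₂} ≠ ⊤ := fun w₁ w₂ e => by
    classical
    have h1 : Module.finrank F (Submodule.span F ({w₁, w₂} : Set (Fin n → F))) ≤ 2 :=
      (finrank_span_le_card ({w₁, w₂} : Set (Fin n → F))).trans
        (by rw [Set.toFinset_insert, Set.toFinset_singleton]; exact Finset.card_le_two)
    rw [e, finrank_top, Module.finrank_fin_fun] at h1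
    omega
  have hline : ∀ w : Fin n → F, w ≠ 0 → Submodule.span F {w} ≠ ⊥ ∧ Submodule.span F {w} ≠ ⊤ := fun w hw =>
    ⟨fun e => hw (Submodule.span_singleton_eq_bot.1 e), fun e => hle w w (by rw [Set.pair_eq_singleton]; exact e)⟩
  let line : ∀ w : Fin n → F, w ≠ 0 → I := fun w hw => ⟨_, hline w hw⟩
  have hadj : ∀ (a : I) (w : Fin n → F) (hw : w ≠ 0), w ∈ (a : Submodule F (Fin n → F)) → Adj a (line w hw) :=
    fun a w hw hwa => by
      obtain ⟨τ, h1, h2, h3⟩ := exists_transvection_layer hwa hw a.2.2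
      exact ⟨τ, h1, h2, h3⟩
  have hI : Nonempty I := ⟨line (Pi.single ⟨0, by omega⟩ (1 : F)) (fun e => one_ne_zero (α := F)
    (by simpa using congrFun e ⟨0, by omega⟩))⟩
  obtain ⟨i₀⟩ := hI
  refine (localMod_sl p (by omega)).eq_one_of_family f hf hker (fun W : I => layerGroup (W : Submodule F (Fin n → F)))
    (fun W => layerGroup_isPGroup p _) (i₀ := i₀) (fun e => ?_) (fun m W x hx => ?_) (fun a b => ?_) hα U hfix
  · obtain ⟨w, hw, hw0⟩ := Submodule.exists_mem_ne_zero_of_ne_bot i₀.2.1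
    obtain ⟨τ, h1, -, h3⟩ := hadj i₀ w hw0 hw
    exact h3 (Subgroup.mem_bot.1 (e ▸ h1))
  · let T : (Fin n → F) ≃ₗ[F] (Fin n → F) := Matrix.SpecialLinearGroup.toLin' m
    have hT : ∀ v, T v = (m : Matrix (Fin n) (Fin n) F) *ᵥ v := fun v => by
      simp [T, Matrix.SpecialLinearGroup.toLin'_apply]
    have hmem : (W : Submodule F (Fin n → F)).map (T : (Fin n → F) →ₗ[F] (Fin n → F)) ≠ ⊥ ∧
        (W : Submodule F (Fin n → F)).map (T : (Fin n → F) →ₗ[F] (Fin n → F)) ≠ ⊤ :=
      ⟨fun e => W.2.1 (by simpa using e), fun e => W.2.2 (by simpa using e)⟩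
    have hinv : ∀ v, (m : Matrix (Fin n) (Fin n) F) *ᵥ (((m⁻¹ : G) : Matrix (Fin n) (Fin n) F) *ᵥ v) = v :=
      fun v => by
        rw [Matrix.mulVec_mulVec, ← Matrix.SpecialLinearGroup.coe_mul, mul_inv_cancel,
          Matrix.SpecialLinearGroup.coe_one, Matrix.one_mulVec]
    refine ⟨⟨_, hmem⟩, fun v => ?_, fun w hw => ?_⟩
    · refine ⟨_, hx.1 (((m⁻¹ : G) : Matrix (Fin n) (Fin n) F) *ᵥ v), ?_⟩
      rw [LinearEquiv.coe_coe, hT, Matrix.mulVec_sub, hinv]
      simp only [Matrix.SpecialLinearGroup.coe_mul, ← Matrix.mulVec_mulVec]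
    · obtain ⟨w, hw, rfl⟩ := hw
      rw [LinearEquiv.coe_coe, hT]
      simp only [Matrix.SpecialLinearGroup.coe_mul, ← Matrix.mulVec_mulVec]
      rw [show ((m⁻¹ : G) : Matrix (Fin n) (Fin n) F) *ᵥ ((m : Matrix (Fin n) (Fin n) F) *ᵥ w) = w by
        rw [Matrix.mulVec_mulVec, ← Matrix.SpecialLinearGroup.coe_mul, inv_mul_cancel,
          Matrix.SpecialLinearGroup.coe_one, Matrix.one_mulVec], hx.2 w hw]
  · obtain ⟨v, hv, hv0⟩ := Submodule.exists_mem_ne_zero_of_ne_bot a.2.1
    obtain ⟨w, hw, hw0⟩ := Submodule.exists_mem_ne_zero_of_ne_bot b.2.1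
    let P : I := ⟨Submodule.span F {v, w},
      fun e => hv0 (Submodule.mem_bot F |>.1 (e ▸ Submodule.subset_span (by simp))), hle v w⟩
    exact ((((Relation.ReflTransGen.single (hadj a v hv0 hv)).tail
      (hsymm (hadj P v hv0 (Submodule.subset_span (by simp))))).tail
      (hadj P w hw0 (Submodule.subset_span (by simp)))).tail (hsymm (hadj b w hw0 hw)))

end Cfsg.Lib.DefChar
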