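import Cfsg.Agent.Lib.DefChar.Basic

/-!
# Automorphisms of order prime to `p` fixing a Sylow `p`-subgroup

When centralisers of `p`-elements are of characteristic `p`, the fixed group contains the centraliser of
each of its non-trivial `p`-elements, so it is everything as soon as commuting `p`-elements connect a
generating set. When every Sylow subgroup is normalised, the automorphism is trivial.
-/

set_option autoImplicit false

namespace Cfsg.Lib.DefChar

open Subgroup

variable {G : Type*} [Group G] {p : ℕ}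

/-- The elements fixed by an automorphism. -/
def fixSub (α : MulAut G) : Subgroup G := MonoidHom.eqLocus α.toMonoidHom (MonoidHom.id G)

theorem mem_fixSub {α : MulAut G} {g : G} : g ∈ fixSub α ↔ α g = g := Iff.rfl

/-- An element moved by a fixed `p`-element is fixed. -/
theorem eq_of_fixed_quotient {α : MulAut G} (hα : ¬ p ∣ orderOf α) [hp : Fact p.Prime] {y z : G}
    (hy : α y = y * z) (hz : α z = z) (hzp : ∃ k : ℕ, z ^ p ^ k = 1) : α y = y := by
  have hiter : ∀ n : ℕ, (α ^ n) y = y * z ^ n := by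
    intro n
    induction n with
    | zero => simp
    | succ n ih =>
      rw [pow_succ', MulAut.mul_apply, ih, map_mul, map_pow, hy, hz, mul_assoc, pow_succ']
  have h1 := hiter (orderOf α)
  rw [pow_orderOf_eq_one, MulAut.one_apply] at h1
  have h2 : orderOf z ∣ orderOf α := orderOf_dvd_of_pow_eq_one (mul_eq_left.1 h1.symm)
  obtain ⟨k, hk⟩ := hzp
  have h3 : orderOf z = 1 := Nat.eq_one_of_dvd_coprimes
    (((Nat.Prime.coprime_iff_not_dvd hp.out).2 hα).pow_left k) (orderOf_dvd_of_pow_eq_one hk) h2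
  rw [hy, orderOf_eq_one_iff.1 h3, mul_one]

variable [hp : Fact p.Prime] [Finite G] {α : MulAut G}

/-- A `p`-group with a fixed element whose centraliser is fixed is fixed. -/
theorem le_fixSub_of_mem (hα : ¬ p ∣ orderOf α) {P : Subgroup G} (hP : IsPGroup p P)
    (hαP : ∀ x ∈ P, α x ∈ P) {w : G} (hw : w ∈ P) (hwf : α w = w)
    (hwC : centralizer ({w} : Set G) ≤ fixSub α) : P ≤ fixSub α := by
  by_contra hle
  haveI : Group.IsNilpotent ↥P := hP.isNilpotent
  set Q := (fixSub α).subgroupOf P with hQ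
  have hlt : Q < ⊤ := lt_top_iff_ne_top.2 fun h => hle (subgroupOf_eq_top.1 h)
  obtain ⟨y, hy, hyQ⟩ := SetLike.exists_of_lt (Group.normalizerCondition_of_isNilpotent _ hlt)
  apply hyQ
  rw [hQ, mem_subgroupOf, mem_fixSub]
  set z : G := (y : G)⁻¹ * α y with hz
  have hzP : z ∈ P := mul_mem (inv_mem y.2) (hαP _ y.2)
  have hconj : α ((y : G) * w * (y : G)⁻¹) = (y : G) * w * (y : G)⁻¹ :=
    (mem_normalizer_iff.1 hy ⟨w, hw⟩).1 (show (⟨w, hw⟩ : ↥P) ∈ Q from hwf)
  have hzw : z ∈ centralizer ({w} : Set G) := by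
    rw [map_mul, map_mul, map_inv, hwf] at hconj
    refine mem_centralizer_singleton_iff.2 ?_
    calc z * w = (y : G)⁻¹ * (α y * w * (α y)⁻¹) * α y := by rw [hz]; group
      _ = w * z := by rw [hconj, hz]; group
  obtain ⟨k, hk⟩ := hP ⟨z, hzP⟩
  exact eq_of_fixed_quotient hα (by rw [hz]; group) (hwC hzw) ⟨k, congrArg Subtype.val hk⟩

/-- The largest normal `p`-subgroup of the centraliser of an element. -/
def opCent (p : ℕ) (x : G) : Subgroup G :=
  (Cfsg.pCore p ↥(centralizer ({x} : Set G))).map (centralizer ({x} : Set G)).subtype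

theorem opCent_le (x : G) : opCent p x ≤ centralizer ({x} : Set G) := map_subtype_le _

theorem opCent_isPGroup (x : G) : IsPGroup p (opCent p x) :=
  (Cfsg.Lib.Core.pCore_isPGroup p _).map _

theorem centralizer_le_normalizer_opCent (x : G) :
    centralizer ({x} : Set G) ≤ normalizer (opCent p x : Set G) :=
  (le_normalizer_map _).trans' <| by
    rw [normalizer_eq_top_iff.2 inferInstance, ← MonoidHom.range_eq_map, range_subtype]

theorem apply_mem_opCent {x : G} (hx : α x = x) {a : G} (ha : a ∈ opCent p x) : α a ∈ opCent p x := by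
  have hC : (centralizer ({x} : Set G)).map α.toMonoidHom = centralizer ({x} : Set G) := by
    ext g
    simp only [mem_map, MulEquiv.coe_toMonoidHom, mem_centralizer_singleton_iff]
    constructor
    · rintro ⟨g, hg, rfl⟩
      rw [← hx, ← map_mul, ← map_mul, hg]
    · intro hg
      refine ⟨α.symm g, α.injective ?_, α.apply_symm_apply g⟩
      rw [map_mul, map_mul, α.apply_symm_apply, hx, hg]
  obtain ⟨b, hb, rfl⟩ := ha
  have hb' : ((α.subgroupMap (centralizer ({x} : Set G))).trans (MulEquiv.subgroupCongr hC)) b ∈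
      Cfsg.pCore p ↥(centralizer ({x} : Set G)) := by
    rw [← Cfsg.Lib.Core.map_pCore_equiv
      ((α.subgroupMap (centralizer ({x} : Set G))).trans (MulEquiv.subgroupCongr hC))]
    exact ⟨b, hb, rfl⟩
  exact ⟨_, hb', rfl⟩

theorem Local.centralizer_le_fixSub (h : Local p G) (hα : ¬ p ∣ orderOf α) {x : G} (hx : x ≠ 1)
    (hxp : ∃ k : ℕ, x ^ p ^ k = 1) (hxf : α x = x) (hO : opCent p x ≤ fixSub α) :
    centralizer ({x} : Set G) ≤ fixSub α := by
  intro y hy
  rw [mem_fixSub]
  set z : G := y⁻¹ * α y with hz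
  have hαy : α y ∈ centralizer ({x} : Set G) := by
    rw [mem_centralizer_singleton_iff] at hy ⊢
    rw [← hxf, ← map_mul, ← map_mul, hy]
  have hzC : z ∈ centralizer ({x} : Set G) := mul_mem (inv_mem hy) hαy
  obtain ⟨W, hWn, hWp, hW⟩ := h.exists_witness hx hxp
  haveI := hWn
  set Cx := centralizer ({x} : Set G) with hCx
  set O := Cfsg.pCore p ↥Cx with hOdef
  -- the centraliser of `O` lies in `O`
  set K := centralizer (O : Set ↥Cx) with hK
  haveI hKn : K.Normal := Subgroup.normal_centralizer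
  have hKp : IsPGroup p K := by
    intro k
    obtain ⟨a, m, hm, he⟩ : ∃ a m, ¬ p ∣ m ∧ orderOf (k : ↥Cx) = p ^ a * m :=
      Nat.exists_eq_pow_mul_and_not_dvd (orderOf_pos _).ne' p hp.out.ne_one
    refine ⟨a, Subtype.ext ?_⟩
    refine hW _ (fun w hw => ?_) ?_
    · exact ((mem_centralizer_iff.1 k.2 w (Cfsg.Lib.Core.le_pCore hWp hw) :
        w * (k : ↥Cx) = k * w) |> fun e => (Commute.pow_left e.symm _))
    · rw [SubmonoidClass.coe_pow, orderOf_pow, he,
        Nat.gcd_eq_right (dvd_mul_right _ _), Nat.mul_div_cancel_left _ (pow_pos hp.out.pos a)]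
      exact hm
  have hzK : (⟨z, hzC⟩ : ↥Cx) ∈ K := by
    refine mem_centralizer_iff.2 fun o ho => Subtype.ext ?_
    show (o : G) * z = z * o
    have hc : y * (o : G) * y⁻¹ ∈ opCent p x :=
      ⟨⟨y, hy⟩ * o * (⟨y, hy⟩ : ↥Cx)⁻¹, (inferInstance : O.Normal).conj_mem o ho _, rfl⟩
    have h1 : α (y * (o : G) * y⁻¹) = y * (o : G) * y⁻¹ := hO hc
    have h2 : α (o : G) = o := hO ⟨o, ho, rfl⟩
    rw [map_mul, map_mul, map_inv, h2] at h1
    calc (o : G) * z = y⁻¹ * (y * (o : G) * y⁻¹) * α y := by rw [hz]; group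
      _ = z * o := by rw [← h1, hz]; group
  have hzO : z ∈ opCent p x := ⟨_, Cfsg.Lib.Core.le_pCore hKp hzK, rfl⟩
  obtain ⟨k, hk⟩ := opCent_isPGroup x ⟨z, hzO⟩
  exact eq_of_fixed_quotient hα (by rw [hz]; group) (hO hzO) ⟨k, congrArg Subtype.val hk⟩

/-- The fixed group contains the centraliser of each of its non-trivial `p`-elements. -/
theorem Local.centralizer_le_fixed (h : Local p G) (hα : ¬ p ∣ orderOf α) (U : Sylow p G)
    (hfix : ∀ x ∈ (U : Subgroup G), α x = x) {x : G} (hx : x ≠ 1) (hxp : ∃ k : ℕ, x ^ p ^ k = 1)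
    (hxf : α x = x) : centralizer ({x} : Set G) ≤ fixSub α := by
  have hUf : (U : Subgroup G) ≤ fixSub α := hfix
  -- move `x` into `U` by a fixed element
  set UC := U.subtype hUf with hUC
  obtain ⟨k, hk⟩ := hxp
  have hZ : IsPGroup p (zpowers (⟨x, hxf⟩ : ↥(fixSub α))) := by
    rintro ⟨y, hy⟩
    obtain ⟨j, rfl⟩ := mem_zpowers_iff.1 hy
    exact ⟨k, Subtype.ext (Subtype.ext (by
      show (x ^ j) ^ p ^ k = 1
      rw [← zpow_natCast, zpow_comm, zpow_natCast, hk, one_zpow]))⟩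
  obtain ⟨Q, hQ⟩ := hZ.exists_le_sylow
  obtain ⟨c, hc⟩ := MulAction.exists_smul_eq ↥(fixSub α) Q UC
  set u : G := (c : G) * x * (c : G)⁻¹ with hu
  have huU : u ∈ (U : Subgroup G) := by
    have h1 : (c * ⟨x, hxf⟩ * c⁻¹ : ↥(fixSub α)) ∈ (c • Q : Sylow p ↥(fixSub α)) :=
      ⟨_, hQ (mem_zpowers _), rfl⟩
    rw [hc] at h1
    exact h1
  -- a central element of `U`
  haveI : Nontrivial ↥(U : Subgroup G) := ⟨⟨⟨u, huU⟩, 1, fun e => hx (by
    have := congrArg Subtype.val e
    simpa [hu, mul_inv_eq_one] using this)⟩⟩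
  haveI := U.isPGroup'.center_nontrivial
  obtain ⟨⟨z₀, hz₀⟩, hz₀1⟩ := exists_ne (1 : center ↥(U : Subgroup G))
  have hz01 : (z₀ : G) ≠ 1 := fun e => hz₀1 (Subtype.ext (Subtype.ext e))
  have hUz : (U : Subgroup G) ≤ centralizer ({(z₀ : G)} : Set G) := fun v hv =>
    mem_centralizer_singleton_iff.2 (congrArg Subtype.val (mem_center_iff.1 hz₀ ⟨v, hv⟩))
  have hOU : opCent p (z₀ : G) ≤ (U : Subgroup G) :=
    le_sup_left.trans (U.is_maximal' ((opCent_isPGroup _).to_sup_of_normal_left' U.isPGroup'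
      (hUz.trans (centralizer_le_normalizer_opCent _))) le_sup_right).le
  have hpz : ∃ k : ℕ, (z₀ : G) ^ p ^ k = 1 := by
    obtain ⟨k, hk⟩ := U.isPGroup' z₀
    exact ⟨k, congrArg Subtype.val hk⟩
  have hz0C := h.centralizer_le_fixSub hα hz01 hpz (hfix _ z₀.2) (hOU.trans hUf)
  -- the element of `U`
  have huf : α u = u := hfix u huU
  have hu1 : u ≠ 1 := fun e => hx (by simpa [hu, mul_inv_eq_one] using e)
  have hz0u : (z₀ : G) ∈ centralizer ({u} : Set G) :=
    mem_centralizer_singleton_iff.2 (congrArg Subtype.val (mem_center_iff.1 hz₀ ⟨u, huU⟩)).symm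
  have hZp : IsPGroup p (zpowers (z₀ : G)) := U.isPGroup'.to_le (zpowers_le.2 z₀.2)
  have hP : IsPGroup p (opCent p u ⊔ zpowers (z₀ : G) : Subgroup G) :=
    (opCent_isPGroup u).to_sup_of_normal_left' hZp
      ((zpowers_le.2 hz0u).trans (centralizer_le_normalizer_opCent _))
  have hαP : ∀ a ∈ opCent p u ⊔ zpowers (z₀ : G), α a ∈ opCent p u ⊔ zpowers (z₀ : G) := by
    have : opCent p u ⊔ zpowers (z₀ : G) ≤ (opCent p u ⊔ zpowers (z₀ : G)).comap α.toMonoidHom :=
      sup_le (fun a ha => mem_sup_left (apply_mem_opCent huf ha))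
        (zpowers_le.2 (show α (z₀ : G) ∈ opCent p u ⊔ zpowers (z₀ : G) by
          rw [hfix _ z₀.2]; exact mem_sup_right (mem_zpowers _)))
    exact fun a ha => this ha
  have huC := h.centralizer_le_fixSub hα hu1 ⟨k, by rw [hu, conj_pow, hk]; simp⟩ huf
    (le_sup_left.trans (le_fixSub_of_mem hα hP hαP (mem_sup_right (mem_zpowers _)) (hfix _ z₀.2) hz0C))
  -- back to `x`
  intro y hy
  have h1 : (c : G) * y * (c : G)⁻¹ ∈ fixSub α := huC (mem_centralizer_singleton_iff.2 (by
    rw [mem_centralizer_singleton_iff] at hy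
    calc (c : G) * y * (c : G)⁻¹ * u = (c : G) * (y * x) * (c : G)⁻¹ := by rw [hu]; group
      _ = u * ((c : G) * y * (c : G)⁻¹) := by rw [hy, hu]; group))
  simpa [mul_assoc] using mul_mem (mul_mem (inv_mem c.2) h1) c.2

/-- Commuting `p`-elements connecting a generating set force the automorphism to be trivial. -/
theorem Local.eq_one_of_connected (h : Local p G) (hα : ¬ p ∣ orderOf α) (U : Sylow p G)
    (hfix : ∀ x ∈ (U : Subgroup G), α x = x) {S : Set G} (hgen : closure S = ⊤)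
    (hS : ∀ s ∈ S, s ≠ 1 ∧ ∃ k : ℕ, s ^ p ^ k = 1) {s₀ : G} (hs₀ : s₀ ∈ S) (hs₀f : α s₀ = s₀)
    (hconn : ∀ s ∈ S, Relation.ReflTransGen (fun a b => b ∈ S ∧ Commute a b) s₀ s) : α = 1 := by
  have hall : ∀ s, Relation.ReflTransGen (fun a b => b ∈ S ∧ Commute a b) s₀ s → s ∈ S ∧ α s = s := by
    intro s hs
    induction hs with
    | refl => exact ⟨hs₀, hs₀f⟩
    | tail _ hab ih =>
      exact ⟨hab.1, h.centralizer_le_fixed hα U hfix (hS _ ih.1).1 (hS _ ih.1).2 ih.2
        (mem_centralizer_singleton_iff.2 hab.2.eq.symm)⟩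
  have hC : fixSub α = ⊤ := top_le_iff.1 (hgen ▸ (closure_le _).2 fun s hs => (hall s (hconn s hs)).2)
  exact MulEquiv.ext fun g => (hC ▸ mem_top g : g ∈ fixSub α)

/-- An automorphism normalising every Sylow subgroup of a simple group with non-normal Sylow subgroups is
trivial. -/
theorem eq_one_of_normalises_sylows [IsSimpleGroup G] (U : Sylow p G)
    (hU : normalizer ((U : Subgroup G) : Set G) ≠ ⊤)
    (hall : ∀ g x : G, x ∈ (U : Subgroup G) → g⁻¹ * α (g * x * g⁻¹) * g ∈ (U : Subgroup G)) : α = 1 := by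
  set N := normalizer ((U : Subgroup G) : Set G) with hN
  have hαU : (U : Subgroup G).map α.toMonoidHom = U := by
    refine Subgroup.eq_of_le_of_card_ge ?_ (le_of_eq ?_)
    · rintro _ ⟨x, hx, rfl⟩
      simpa using hall 1 x hx
    · exact (Nat.card_congr (((U : Subgroup G).equivMapOfInjective _ α.injective).toEquiv)).symm.symm
  have hz : ∀ g : G, g⁻¹ * α g ∈ N := by
    intro g
    have hle : (U : Subgroup G).map (MulAut.conj (g⁻¹ * α g)).toMonoidHom ≤ U := by
      rintro _ ⟨x, hx, rfl⟩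
      rw [← hαU] at hx
      obtain ⟨x, hx, rfl⟩ := hx
      simpa [mul_assoc] using hall g x hx
    have heq := Subgroup.eq_of_le_of_card_ge hle (le_of_eq
      (Nat.card_congr (((U : Subgroup G).equivMapOfInjective _ (MulAut.conj (g⁻¹ * α g)).injective).toEquiv)))
    rw [hN, mem_normalizer_iff]
    intro x
    conv_rhs => rw [← heq]
    constructor
    · exact fun hx => mem_map_of_mem _ hx
    · rintro ⟨x', hx', e⟩
      have e' : x' = x := (MulAut.conj (g⁻¹ * α g)).injective e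
      rwa [← e']
  have hcore : N.normalCore = ⊥ :=
    ((inferInstance : N.normalCore.Normal).eq_bot_or_eq_top).resolve_right fun e =>
      hU (top_le_iff.1 (e ▸ N.normalCore_le))
  refine MulEquiv.ext fun g => ?_
  have h1 : g⁻¹ * α g ∈ N.normalCore := by
    intro b
    have h2 := mul_mem (hz (g * b⁻¹)) (inv_mem (hz b⁻¹))
    simpa [mul_assoc] using h2
  rw [hcore, mem_bot, inv_mul_eq_one] at h1
  exact h1.symm

/-- An automorphism fixing a Sylow subgroup acting regularly on the others is trivial. -/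
theorem eq_one_of_rank_one [IsSimpleGroup G] (hα : ¬ p ∣ orderOf α) (U : Sylow p G)
    (hfix : ∀ x ∈ (U : Subgroup G), α x = x) (g₀ : G) (hg₀ : g₀ ∉ normalizer ((U : Subgroup G) : Set G))
    (htrans : ∀ g, g ∈ normalizer ((U : Subgroup G) : Set G) ∨
      ∃ u ∈ (U : Subgroup G), ∃ b ∈ normalizer ((U : Subgroup G) : Set G), g = u * g₀ * b)
    (hfree : ∀ u ∈ (U : Subgroup G), g₀⁻¹ * u * g₀ ∈ normalizer ((U : Subgroup G) : Set G) → u = 1) :
    α = 1 := by
  set N := normalizer ((U : Subgroup G) : Set G) with hN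
  have hαN : ∀ b, α b ∈ N ↔ b ∈ N := by
    intro b
    simp only [hN, mem_normalizer_iff]
    constructor <;> intro h x
    · rw [← (show ∀ y, α y ∈ (U : Subgroup G) ↔ y ∈ (U : Subgroup G) from fun y =>
        ⟨fun hy => by simpa [α.injective.eq_iff.1 (hfix _ hy)] using hy, fun hy => by rwa [hfix y hy]⟩) (b * x * b⁻¹),
        map_mul, map_mul, map_inv, ← h (α x)]
      exact ⟨fun hy => by rwa [hfix x hy], fun hy => by rwa [α.injective.eq_iff.1 (hfix _ hy)] at hy⟩
    · obtain ⟨x, rfl⟩ := α.surjective x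
      rw [← map_inv, ← map_mul, ← map_mul]
      constructor
      · intro hy
        have hy' : x ∈ (U : Subgroup G) := by rwa [α.injective.eq_iff.1 (hfix _ hy)] at hy
        rw [hfix _ ((h x).1 hy')]
        exact (h x).1 hy'
      · intro hy
        have hy' : b * x * b⁻¹ ∈ (U : Subgroup G) := by rwa [α.injective.eq_iff.1 (hfix _ hy)] at hy
        rw [hfix _ ((h x).2 hy')]
        exact (h x).2 hy'
  obtain ⟨u, hu, b, hb, hub⟩ := (htrans (α g₀)).resolve_left fun h => hg₀ ((hαN g₀).1 h)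
  have hiter : ∀ n : ℕ, ∃ c ∈ N, (α ^ n) g₀ = u ^ n * g₀ * c := by
    intro n
    induction n with
    | zero => exact ⟨1, one_mem _, by simp⟩
    | succ n ih =>
      obtain ⟨c, hc, e⟩ := ih
      refine ⟨b * α c, mul_mem hb ((hαN c).2 hc), ?_⟩
      rw [pow_succ', MulAut.mul_apply, e, map_mul, map_mul, map_pow, hfix u hu, hub, pow_succ]
      group
  obtain ⟨c, hc, e⟩ := hiter (orderOf α)
  rw [pow_orderOf_eq_one, MulAut.one_apply] at e
  have hun : u ^ orderOf α = 1 := hfree _ (pow_mem hu _) (by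
    have e' : g₀⁻¹ * u ^ orderOf α * g₀ = c⁻¹ := by
      calc g₀⁻¹ * u ^ orderOf α * g₀ = g₀⁻¹ * (u ^ orderOf α * g₀ * c) * c⁻¹ := by group
        _ = c⁻¹ := by rw [← e]; group
    rw [e']
    exact inv_mem hc)
  obtain ⟨k, hk⟩ := U.isPGroup' ⟨u, hu⟩
  have hu1 : u = 1 := orderOf_eq_one_iff.1 (Nat.eq_one_of_dvd_coprimes
    (((Nat.Prime.coprime_iff_not_dvd hp.out).2 hα).pow_left k)
    (orderOf_dvd_of_pow_eq_one (congrArg Subtype.val hk)) (orderOf_dvd_of_pow_eq_one hun))
  subst hu1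
  rw [one_mul] at hub
  refine eq_one_of_normalises_sylows U (fun h => hg₀ (by rw [hN, h]; trivial)) fun g x hx => ?_
  have hz : g⁻¹ * α g ∈ N := by
    rcases htrans g with h | ⟨v, hv, d, hd, rfl⟩
    · exact mul_mem (inv_mem h) ((hαN g).2 h)
    · rw [map_mul, map_mul, hfix v hv, hub,
        show (v * g₀ * d)⁻¹ * (v * (g₀ * b) * α d) = d⁻¹ * b * α d by group]
      exact mul_mem (mul_mem (inv_mem hd) hb) ((hαN d).2 hd)
  have := (mem_normalizer_iff.1 hz x).1 hx
  rw [map_mul, map_mul, map_inv, hfix x hx]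
  simpa [mul_assoc] using this

/-- Sylow subgroups with trivial intersections, one more than the order of one of them: an automorphism
fixing one of them elementwise is trivial. -/
theorem eq_one_of_ti [IsSimpleGroup G] (hα : ¬ p ∣ orderOf α) (U : Sylow p G)
    (hfix : ∀ x ∈ (U : Subgroup G), α x = x)
    (hTI : ∀ P Q : Sylow p G, P ≠ Q → (P : Subgroup G) ⊓ (Q : Subgroup G) = ⊥)
    (hcard : Nat.card (Sylow p G) = Nat.card (U : Subgroup G) + 1) : α = 1 := by
  classical
  obtain ⟨V, hV⟩ : ∃ V : Sylow p G, V ≠ U := by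
    by_contra hno
    push Not at hno
    have hsub : Subsingleton (Sylow p G) := ⟨fun a b => (hno a).trans (hno b).symm⟩
    have := Finite.card_le_one_iff_subsingleton.2 hsub
    have := Nat.card_pos (α := (U : Subgroup G))
    omega
  obtain ⟨g₀, hg₀⟩ := MulAction.exists_smul_eq G U V
  have hnorm : ∀ g : G, g ∈ normalizer ((U : Subgroup G) : Set G) ↔ g • U = U := fun g =>
    (Sylow.smul_eq_iff_mem_normalizer).symm
  have hfree : ∀ u ∈ (U : Subgroup G), ∀ W : Sylow p G, W ≠ U → u • W = W → u = 1 := by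
    intro u hu W hW hfix'
    rw [Sylow.smul_eq_iff_mem_normalizer] at hfix'
    obtain ⟨k, hk⟩ := U.isPGroup' ⟨u, hu⟩
    have huW : u ∈ (W : Subgroup G) := by
      have hz : IsPGroup p (zpowers u) := U.isPGroup'.to_le (zpowers_le.2 hu)
      have h1 : IsPGroup p (zpowers u ⊔ (W : Subgroup G) : Subgroup G) :=
        hz.to_sup_of_normal_right' W.isPGroup' (zpowers_le.2 hfix')
      exact (W.is_maximal' h1 le_sup_right).le (mem_sup_left (mem_zpowers u))
    have := hTI W U hW
    rw [eq_bot_iff] at this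
    exact mem_bot.1 (this ⟨huW, hu⟩)
  let f : ↥(U : Subgroup G) → {W : Sylow p G // W ≠ U} := fun u => ⟨(u : G) • V, fun e => hV (by
    have h1 : ((u : G))⁻¹ • U = U := (hnorm _).1 (inv_mem (le_normalizer u.2))
    calc V = ((u : G))⁻¹ • ((u : G) • V) := (inv_smul_smul _ _).symm
      _ = ((u : G))⁻¹ • U := by rw [e]
      _ = U := h1)⟩
  have hinj : Function.Injective f := fun a b e => by
    have e' : (a : G) • V = (b : G) • V := congrArg Subtype.val e
    have h1 : (((b⁻¹ * a : (U : Subgroup G))) : G) • V = V := by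
      rw [Subgroup.coe_mul, mul_smul, e', InvMemClass.coe_inv, inv_smul_smul]
    exact (inv_mul_eq_one.1 (Subtype.ext (hfree _ (b⁻¹ * a).2 V hV h1))).symm
  haveI : Finite (Sylow p G) := inferInstance
  haveI := Fintype.ofFinite (Sylow p G)
  have hc : Nat.card {W : Sylow p G // W ≠ U} = Nat.card (U : Subgroup G) := by
    rw [Nat.card_eq_fintype_card, Fintype.card_subtype_compl, ← Nat.card_eq_fintype_card, hcard]
    simp
  have hbij := (Nat.bijective_iff_injective_and_card f).2 ⟨hinj, hc.symm⟩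
  refine eq_one_of_rank_one hα U hfix g₀ (fun h => hV (hg₀ ▸ (hnorm _).1 h)) (fun g => ?_) fun u hu h => ?_
  · by_cases hg : g • U = U
    · exact Or.inl ((hnorm g).2 hg)
    · obtain ⟨u, hu⟩ := hbij.2 ⟨g • U, hg⟩
      refine Or.inr ⟨(u : G), u.2, ((u : G) * g₀)⁻¹ * g, (hnorm _).2 ?_, by group⟩
      have hu' : (u : G) • V = g • U := congrArg Subtype.val hu
      rw [mul_smul, ← hu', mul_inv_rev, mul_smul]
      rw [inv_smul_smul, ← hg₀, inv_smul_smul]
  · refine hfree u hu V hV ?_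
    have h1 := (hnorm _).1 h
    rw [mul_smul, mul_smul, hg₀, inv_smul_eq_iff, hg₀] at h1
    exact h1

/-- Non-trivial `p`-elements generating the group whose commuting graph is connected. -/
def ConnGen (p : ℕ) (G : Type*) [Group G] : Prop :=
  ∃ S : Set G, ∃ s₀ ∈ S, closure S = ⊤ ∧ (∀ s ∈ S, s ≠ 1 ∧ ∃ k : ℕ, s ^ p ^ k = 1) ∧
    ∀ s ∈ S, Relation.ReflTransGen (fun a b => a ∈ S ∧ b ∈ S ∧ Commute a b) s₀ s

omit hp [Finite G] in
/-- Passing to an image in which the generators stay non-trivial. -/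
theorem ConnGen.map {H : Type*} [Group H] (f : G →* H) (hf : Function.Surjective f)
    (hker : ∀ g ∈ f.ker, ∀ k : ℕ, g ^ p ^ k = 1 → g = 1) (h : ConnGen p G) : ConnGen p H := by
  obtain ⟨S, s₀, hs₀, hgen, hS, hconn⟩ := h
  refine ⟨f '' S, f s₀, ⟨s₀, hs₀, rfl⟩, ?_, ?_, ?_⟩
  · rw [← MonoidHom.map_closure, hgen, Subgroup.map_top_of_surjective f hf]
  · rintro _ ⟨s, hs, rfl⟩
    obtain ⟨k, hk⟩ := (hS s hs).2
    exact ⟨fun e => (hS s hs).1 (hker s e k hk), k, by rw [← map_pow, hk, map_one]⟩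
  · rintro _ ⟨s, hs, rfl⟩
    exact (hconn s hs).lift f fun a b hab => ⟨⟨a, hab.1, rfl⟩, ⟨b, hab.2.1, rfl⟩, hab.2.2.map f⟩

omit hp [Finite G] in
theorem ConnGen.congr {H : Type*} [Group H] (e : G ≃* H) (h : ConnGen p G) : ConnGen p H :=
  h.map e.toMonoidHom e.surjective fun g hg _ _ => e.injective (by rw [map_one]; exact hg)

/-- An automorphism of order prime to `p` fixing a Sylow subgroup of a group with connected `p`-elements. -/
theorem Local.eq_one_of_connGen (h : Local p G) (hc : ConnGen p G) (hα : ¬ p ∣ orderOf α) (U : Sylow p G)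
    (hfix : ∀ x ∈ (U : Subgroup G), α x = x) : α = 1 := by
  obtain ⟨S, s₀, hs₀, hgen, hS, hconn⟩ := hc
  obtain ⟨k, hk⟩ := (hS s₀ hs₀).2
  have hz : IsPGroup p (zpowers s₀) := IsPGroup.iff_card.2 (by
    rw [Nat.card_zpowers]
    obtain ⟨j, -, e⟩ := (Nat.dvd_prime_pow hp.out).1 (orderOf_dvd_of_pow_eq_one hk)
    exact ⟨j, e⟩)
  obtain ⟨Q, hQ⟩ := hz.exists_le_sylow
  obtain ⟨g, hg⟩ := MulAction.exists_smul_eq G Q U
  have hmem : MulAut.conj g s₀ ∈ (U : Subgroup G) := by
    have h1 : MulAut.conj g s₀ ∈ (g • Q : Sylow p G) := ⟨s₀, hQ (mem_zpowers _), rfl⟩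
    rwa [hg] at h1
  refine h.eq_one_of_connected hα U hfix (S := MulAut.conj g '' S) ?_ ?_ ⟨s₀, hs₀, rfl⟩ (hfix _ hmem) ?_
  · show closure ((MulAut.conj g).toMonoidHom '' S) = ⊤
    rw [← MonoidHom.map_closure, hgen, Subgroup.map_top_of_surjective _ (MulAut.conj g).surjective]
  · rintro _ ⟨s, hs, rfl⟩
    obtain ⟨k, hk⟩ := (hS s hs).2
    exact ⟨fun e => (hS s hs).1 ((MulAut.conj g).injective (e.trans (map_one _).symm)), k,
      by rw [← map_pow, hk, map_one]⟩
  · rintro _ ⟨s, hs, rfl⟩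
    exact (hconn s hs).lift (MulAut.conj g) fun a b hab => ⟨⟨b, hab.2.1, rfl⟩,
      hab.2.2.map (MulAut.conj g).toMonoidHom⟩

end Cfsg.Lib.DefChar
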