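import Cfsg.Agent.Lib.DefChar.FixGen
import Cfsg.Agent.Lib.Chev.TwAutNorm
import Cfsg.Agent.Lib.Chev.TwAutRigid
import Cfsg.Agent.Lib.Chev.TwAutTypes
import Cfsg.Agent.Lib.Chev.TwF4Orders

/-!
# Coprime automorphisms of the twisted groups of rank at least two

Each generator in an opposite orbit subgroup commutes with an element of another positive orbit subgroup.
-/

set_option autoImplicit false
set_option linter.unusedSectionVars false
set_option maxRecDepth 100000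

namespace Cfsg.Lib.DefChar

open Cfsg.Lie Cfsg.Lib.Chev Subgroup

variable {H : Type*} [Group H] [Finite H] [IsSimpleGroup H] {p : ℕ} [hp : Fact p.Prime]

/-- The criterion along an isomorphism, for any Sylow subgroup. -/
theorem Local.eq_one_of_inter_equiv {G : Type*} [Group G] (h : Local p H) (e : G ≃* H) {α : MulAut H}
    (hα : ¬ p ∣ orderOf α) (U : Sylow p H) (hfix : ∀ x ∈ (U : Subgroup H), α x = x) {P : Subgroup G}
    (hP : IsPGroup p P) (hPi : ¬ p ∣ P.index) {T : Set G} (hT : closure T = ⊤)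
    (hint : ∀ t ∈ T, ∃ x ∈ P, x ≠ 1 ∧ t * x * t⁻¹ ∈ P) : α = 1 := by
  have hidx : ¬ p ∣ (P.map e.toMonoidHom).index := by
    rwa [show (P.map e.toMonoidHom).index = P.index from index_map_equiv P e]
  obtain ⟨c, hc⟩ := MulAction.exists_smul_eq H ((hP.map e.toMonoidHom).toSylow hidx) U
  have hmem : ∀ x ∈ P, c * e x * c⁻¹ ∈ (U : Subgroup H) := fun x hx => by
    rw [← hc]
    exact ⟨e x, ⟨x, hx, rfl⟩, rfl⟩
  refine h.eq_one_of_inter hα U hfix (T := (fun g => c * e g * c⁻¹) '' T) ?_ ?_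
  · show closure ((((MulAut.conj c).toMonoidHom.comp e.toMonoidHom)) '' T) = ⊤
    rw [← MonoidHom.map_closure, hT, Subgroup.map_top_of_surjective]
    exact (MulAut.conj c).surjective.comp e.surjective
  · rintro _ ⟨t, ht, rfl⟩
    obtain ⟨x, hx, hx1, htx⟩ := hint t ht
    refine ⟨c * e x * c⁻¹, hmem x hx, fun h1 => hx1 (e.injective ?_), ?_⟩
    · rw [map_one]; exact conj_eq_one_iff.1 h1
    · convert hmem _ htx using 1
      simp [mul_assoc]

section Simply

variable {D : ChevalleyDatum} {T : Tbl} {F : Type*} [Field F] [CharP F p]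

theorem exists_orb_ne (X : TwCtx D T F) {a b : ℕ} (ha : a < D.rank) (hb : b < D.rank) (hab : a ≠ b)
    (hc : T.cartan a (T.simp' b) ≠ 0) (J : Fin X.tw.norb) : ∃ L : Fin X.tw.norb, L ≠ J := by
  by_cases h : a ∈ X.tw.orb J
  · obtain ⟨L, hL, hbL⟩ := X.comb.orb_cover b hb
    refine ⟨⟨L, hL⟩, fun e => hc ?_⟩
    subst e
    exact (X.simply.orb_comm L hL a h b hbL hab).1
  · obtain ⟨L, hL, haL⟩ := X.comb.orb_cover a ha
    exact ⟨⟨L, hL⟩, fun e => h (e ▸ haL)⟩

theorem eq_one_twCtx (X : TwCtx D T F) (hchk : chkCommNeg T = true) {a b : ℕ} (ha : a < D.rank)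
    (hb : b < D.rank) (hab : a ≠ b) (hc : T.cartan a (T.simp' b) ≠ 0) (hloc : Local p H)
    (e : ↥X.grp ≃* H) {α : MulAut H} (hα : ¬ p ∣ orderOf α) (U : Sylow p H)
    (hfix : ∀ x ∈ (U : Subgroup H), α x = x) : α = 1 := by
  haveI := X.finite
  haveI : Finite ↥X.grp := Finite.of_equiv H e.symm.toEquiv
  obtain ⟨P, hP⟩ := X.exists_sylowT p
  refine hloc.eq_one_of_inter_equiv e hα U hfix P.isPGroup' P.not_dvd_index
    (T := {g : ↥X.grp | ∃ (J : Fin X.tw.norb) (v : ↥(X.sub J)),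
      (g : GL D.Idx F) = X.el J v ∨ (g : GL D.Idx F) = X.eln J v}) ?_ ?_
  · refine top_le_iff.1 fun g _ => ?_
    obtain ⟨g, hg⟩ := g
    have key : X.grp ≤ (closure {g : ↥X.grp | ∃ (J : Fin X.tw.norb) (v : ↥(X.sub J)),
        (g : GL D.Idx F) = X.el J v ∨ (g : GL D.Idx F) = X.eln J v}).map X.grp.subtype :=
      X.grp_le (fun J t ht => ⟨⟨_, X.el_mem J ht⟩, subset_closure ⟨J, ⟨t, ht⟩, Or.inl rfl⟩, rfl⟩)
        fun J t ht => ⟨⟨_, X.eln_mem J ht⟩, subset_closure ⟨J, ⟨t, ht⟩, Or.inr rfl⟩, rfl⟩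
    obtain ⟨y, hy, e'⟩ := key hg
    rwa [show (⟨g, hg⟩ : ↥X.grp) = y from Subtype.ext e'.symm]
  · rintro t ⟨J, v, ht⟩
    obtain ⟨L, hL⟩ := exists_orb_ne X ha hb hab hc J
    let x : ↥X.grp := ⟨X.el L 1, X.el_mem L (one_mem _)⟩
    have hx : x ∈ (P : Subgroup ↥X.grp) := by rw [hP]; exact X.el_pos L 1
    have hx1 : x ≠ 1 := fun h1 => one_ne_zero (X.el_injective L
      ((congrArg Subtype.val h1).trans (TwCtx.orbEl_zero _).symm))
    refine ⟨x, hx, hx1, ?_⟩
    rcases ht with ht | ht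
    · have htP : t ∈ (P : Subgroup ↥X.grp) := by
        rw [hP]; show (t : GL D.Idx F) ∈ D.posUnipotent F
        rw [ht]; exact X.el_pos J v
      exact mul_mem (mul_mem htP hx) (inv_mem htP)
    · have hcm : Commute x t := Subtype.ext (by
        simp only [Subgroup.coe_mul, ht]
        exact (X.commute_el_eln hchk hL 1 (v : F)).eq)
      rwa [← hcm.eq, mul_inv_cancel_right]

variable {K : Type} [Field K] [Fintype K] [CharP K p] {q : ℕ}

theorem eq_one_twistedE6 (hq : IsPrimePow q) (hK : Fintype.card K = q ^ 2) (hloc : Local p H)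
    (e : ↥(Cfsg.Lie.twistedE6 K q) ≃* H) {α : MulAut H} (hα : ¬ p ∣ orderOf α) (U : Sylow p H)
    (hfix : ∀ x ∈ (U : Subgroup H), α x = x) : α = 1 := by
  obtain ⟨X, hX, A, -⟩ := exists_ctxE6 hq hK
  exact eq_one_twCtx X A.commNeg (a := 0) (b := 2) (by decide) (by decide) (by decide) (by decide +kernel)
    hloc ((MulEquiv.subgroupCongr hX).symm.trans e) hα U hfix

theorem eq_one_twistedD4 (hq : IsPrimePow q) (hK : Fintype.card K = q ^ 3) (hloc : Local p H)
    (e : ↥(Cfsg.Lie.twistedD4 K q) ≃* H) {α : MulAut H} (hα : ¬ p ∣ orderOf α) (U : Sylow p H)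
    (hfix : ∀ x ∈ (U : Subgroup H), α x = x) : α = 1 := by
  obtain ⟨X, hX, A, -⟩ := exists_ctxD4 hq hK
  exact eq_one_twCtx X A.commNeg (a := 0) (b := 1) (by decide) (by decide) (by decide) (by decide +kernel)
    hloc ((MulEquiv.subgroupCongr hX).symm.trans e) hα U hfix

end Simply

section F4

variable {K : Type} [Field K] [Fintype K] {m : ℕ}

theorem eq_one_twistedF4 [CharP K esymF4.p] [Fact (Nat.Prime 2)] (hK : Fintype.card K = 2 ^ (2 * m + 1))
    (hloc : Local 2 H) (e : ↥(Cfsg.Lie.twistedF4 K (2 ^ m)) ≃* H) {α : MulAut H} (hα : ¬ 2 ∣ orderOf α)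
    (U : Sylow 2 H) (hfix : ∀ x ∈ (U : Subgroup H), α x = x) : α = 1 := by
  set Φ := (twOKF4 (K := K) m).fixed certF4C with hΦ
  haveI : Finite ↥Φ := Finite.of_equiv H ((MulEquiv.subgroupCongr (twistedF4_eq hK)).symm.trans e).symm.toEquiv
  obtain ⟨hPp, hPi⟩ := f4_pos_sylow hK
  let A : K → ↥Φ := fun t => ⟨f4P m 33 24 t, f4P_fixed hK chkF4PairPos t⟩
  let A' : K → ↥Φ := fun t => ⟨f4P m 14 23 t, f4P_fixed hK chkF4PairNeg t⟩
  let B : K → K → ↥Φ := fun t u => ⟨f4Q m 27 25 28 30 t u, f4Q_fixed hK chkF4QuadPos t u⟩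
  let B' : K → K → ↥Φ := fun t u => ⟨f4Q m 20 22 19 17 t u, f4Q_fixed hK chkF4QuadNeg t u⟩
  refine hloc.eq_one_of_inter_equiv ((MulEquiv.subgroupCongr (twistedF4_eq hK)).symm.trans e) hα U hfix hPp hPi
    (T := {g | ∃ t u, g = A t ∨ g = A' t ∨ g = B t u ∨ g = B' t u}) ?_ ?_
  · refine top_le_iff.1 fun g _ => ?_
    obtain ⟨g, hg⟩ := g
    have key : Φ ≤ (closure {g | ∃ t u, g = A t ∨ g = A' t ∨ g = B t u ∨ g = B' t u}).map Φ.subtype :=
      f4_fixed_le hK (fun t => ⟨A t, subset_closure ⟨t, 0, Or.inl rfl⟩, rfl⟩)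
        (fun t => ⟨A' t, subset_closure ⟨t, 0, Or.inr (Or.inl rfl)⟩, rfl⟩)
        (fun t u => ⟨B t u, subset_closure ⟨t, u, Or.inr (Or.inr (Or.inl rfl))⟩, rfl⟩)
        fun t u => ⟨B' t u, subset_closure ⟨t, u, Or.inr (Or.inr (Or.inr rfl))⟩, rfl⟩
    obtain ⟨y, hy, e'⟩ := key hg
    rwa [show (⟨g, hg⟩ : ↥Φ) = y from Subtype.ext e'.symm]
  · have h27 : ∀ r ∈ [33, 24, 27, 25, 28, 30], r < chevF4.nroots ∧ chevF4.nroots ≤ 2 * r := by decide +kernel
    have hpos : ∀ (r : ℕ) (t : K), r ∈ [33, 24, 27, 25, 28, 30] → xg certF4C r t ∈ chevF4.posUnipotent K :=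
      fun r t hr => xg_mem_pos certF4C (h27 r hr).1 (h27 r hr).2 t
    have hA : ∀ t, f4P m 33 24 t ∈ chevF4.posUnipotent K := fun t =>
      mul_mem (hpos 33 _ (by decide)) (hpos 24 _ (by decide))
    have hB : ∀ t u, f4Q m 27 25 28 30 t u ∈ chevF4.posUnipotent K := fun t u =>
      mul_mem (mul_mem (mul_mem (hpos 27 _ (by decide)) (hpos 25 _ (by decide))) (hpos 28 _ (by decide)))
        (hpos 30 _ (by decide))
    have hA1 : f4P m 33 24 (1 : K) ≠ 1 := fun h1 => one_ne_zero (α := K) (by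
      have e0 : f4Pair 33 24 ((1 : K) ^ 2 ^ m) 1 = f4Pair 33 24 0 0 := by
        rw [show f4Pair 33 24 (0 : K) 0 = 1 by simp [f4Pair, xg_zero]]; exact h1
      exact (f4Pair_inj e0).2)
    have hB1 : f4Q m 27 25 28 30 (0 : K) 1 ≠ 1 := fun h1 => one_ne_zero (α := K) (by
      have e0 : f4Quad 27 25 28 30 (0 : K) 0 1 1 = f4Quad 27 25 28 30 0 0 0 0 := by
        rw [show f4Quad 27 25 28 30 (0 : K) 0 0 0 = 1 by simp [f4Quad, xg_zero], ← h1]
        simp [f4Q, zero_pow (Nat.succ_ne_zero _), zero_pow (pow_ne_zero m two_ne_zero)]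
      exact (f4Quad_inj e0).2.2.1)
    have hcommA : ∀ t u u', Commute (f4P m 33 24 t) (f4Q m 20 22 19 17 (u : K) u') := fun t u u' => by
      have key : ∀ r ∈ [33, 24], ∀ s ∈ [20, 22, 19, 17], ∀ x y : K, Commute (xg certF4C r x) (xg certF4C s y) := by
        intro r hr s hs x y
        have h0 : ∀ r ∈ [33, 24], ∀ s ∈ [20, 22, 19, 17], chkCommMod esymF4.p tblF4 r s = true := by decide +kernel
        exact xg_commute_mod (p := esymF4.p) certF4C fullCertF4.comm (h0 r hr s hs) x y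
      simp only [f4P, f4Pair, f4Q, f4Quad]
      refine Commute.mul_left ?_ ?_ <;> refine ((Commute.mul_right ?_ ?_).mul_right ?_).mul_right ?_ <;>
        exact key _ (by decide) _ (by decide) _ _
    have hcommB : ∀ t u u', Commute (f4Q m 27 25 28 30 u u') (f4P m 14 23 (t : K)) := fun t u u' => by
      have key : ∀ r ∈ [27, 25, 28, 30], ∀ s ∈ [14, 23], ∀ x y : K, Commute (xg certF4C r x) (xg certF4C s y) := by
        intro r hr s hs x y
        have h0 : ∀ r ∈ [27, 25, 28, 30], ∀ s ∈ [14, 23], chkCommMod esymF4.p tblF4 r s = true := by decide +kernel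
        exact xg_commute_mod (p := esymF4.p) certF4C fullCertF4.comm (h0 r hr s hs) x y
      simp only [f4P, f4Pair, f4Q, f4Quad]
      refine ((Commute.mul_left ?_ ?_).mul_left ?_).mul_left ?_ <;> refine Commute.mul_right ?_ ?_ <;>
        exact key _ (by decide) _ (by decide) _ _
    have hmem : ∀ {g : ↥Φ}, (g : GL chevF4.Idx K) ∈ chevF4.posUnipotent K →
        g ∈ (chevF4.posUnipotent K ⊓ Φ).subgroupOf Φ := fun {g} hg => mem_subgroupOf.2 ⟨hg, g.2⟩
    rintro g ⟨t, u, rfl | rfl | rfl | rfl⟩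
    · exact ⟨A 1, hmem (hA 1), fun h1 => hA1 (congrArg Subtype.val h1),
        mul_mem (mul_mem (hmem (hA t)) (hmem (hA 1))) (inv_mem (hmem (hA t)))⟩
    · refine ⟨B 0 1, hmem (hB 0 1), fun h1 => hB1 (congrArg Subtype.val h1), ?_⟩
      rw [← (show Commute (B 0 1) (A' t) from Subtype.ext (hcommB t 0 1).eq).eq, mul_inv_cancel_right]
      exact hmem (hB 0 1)
    · exact ⟨A 1, hmem (hA 1), fun h1 => hA1 (congrArg Subtype.val h1),
        mul_mem (mul_mem (hmem (hB t u)) (hmem (hA 1))) (inv_mem (hmem (hB t u)))⟩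
    · refine ⟨A 1, hmem (hA 1), fun h1 => hA1 (congrArg Subtype.val h1), ?_⟩
      rw [← (show Commute (A 1) (B' t u) from Subtype.ext (hcommA 1 t u).eq).eq, mul_inv_cancel_right]
      exact hmem (hA 1)

end F4

end Cfsg.Lib.DefChar
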